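import Cfsg.Agent.H726.Rel.Main
import Cfsg.Agent.H893.RelU
import Cfsg.Agent.H42.Rel.Central
import Cfsg.Agent.H697.Rel.QsMain

/-!
# S4985: assembly (helper726)
-/

set_option autoImplicit false

open Cfsg

namespace Cfsg.Agent.H726.Rel

open Cfsg.Agent.H672

universe u

theorem centralHyp (hrows : Rows.{u}) (hIM : IMT.{u}) : H893.RelU.CentralHyp.{u} :=
  fun _ _ _ _ _ _ _ hZ hdeg hH => H42.Rel.central (fun _ _ _ _ _ _ _ _ _ _ hna hσ hν hne hk hd hA =>
    H697.Rel.qs hrows hna hσ hν hne hk hd hA) hIM hZ hdeg hH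

theorem uHyp (hrows : Rows.{u}) (hIM : IMT.{u}) : UHyp.{u} :=
  fun _ _ _ N _ _ _ hθ hdeg hH => H893.RelU.lemmaU N hθ hdeg hH (centralHyp hrows hIM)

/-- **S4985** from the Itô-Michler theorem and the rows. -/
theorem solvable_quotient (hIM : IMT.{u}) (hrows : Rows.{u}) (hE : H671.H5.FactExt.{0})
    (hSch : ∀ (S : Type u) [Group S] [Finite S] [IsSimpleGroup S], Group.IsSolvable (Cfsg.Out S))
    {G : Type u} [Group G] [Finite G] (N : Subgroup G) [N.Normal] (hNG : N ≤ commutator G)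
    (a b : ℕ) (ha : a ∈ relCharDegrees N) (hb : b ∈ relCharDegrees N)
    (hdisc : ¬ (commonDivisorGraph.induce (relCharDegrees N)).Reachable ⟨a, ha⟩ ⟨b, hb⟩) :
    Group.IsSolvable (G ⧸ N) := by
  obtain ⟨ω, h⟩ := exists_disc hNG ha hb (fun ⟨_, _, h⟩ => hdisc h)
  exact disc_solvable hIM hE (uHyp hrows hIM) hSch h

end Cfsg.Agent.H726.Rel
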