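import Cfsg.Agent.H726.Rel.Iface
import Cfsg.Agent.H753.CommAutos
import Cfsg.Agent.H528.ClassSize
import Cfsg.Agent.Lib.Cores
import Cfsg.Agent.S0044

/-!
# S4992, case B: the action on the linear characters (helper726)
-/

set_option autoImplicit false
set_option linter.unusedSectionVars false

open Cfsg

namespace Cfsg.Agent.H726.Rel.CB

universe u v

variable {G : Type u} [Group G] [Finite G] {V : Type u} [CommGroup V] [MulDistribMulAction G V]

/-- `H / N` is a normal abelian Hall `ωᶜ`-subgroup of the stabiliser of `v`, and Hall in `G`. -/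
structure HD (ω : Set ℕ) (N H : Subgroup G) (v : V) : Prop where
  le : N ≤ H
  fix : ∀ h ∈ H, h • v = v
  norm : ∀ g : G, g • v = v → ∀ x ∈ H, g * x * g⁻¹ ∈ H
  comm : ∀ a ∈ H, ∀ b ∈ H, a * b * a⁻¹ * b⁻¹ ∈ N
  card : PiNum ωᶜ (Nat.card H)
  index : PiNum ω H.index

namespace HD

variable {ω : Set ℕ} {N H : Subgroup G} {v : V}

theorem mem (h : HD ω N H v) {x : G} (hx : x • v = v) (ho : PiNum ωᶜ (orderOf x)) : x ∈ H := by
  let T : Subgroup G := MulAction.stabilizer G v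
  have hHT : H ≤ T := fun y hy => MulAction.mem_stabilizer_iff.2 (h.fix y hy)
  have hn : (H.subgroupOf T).Normal := by
    refine ⟨fun y hy g => ?_⟩
    rw [Subgroup.mem_subgroupOf] at hy ⊢
    exact h.norm g (MulAction.mem_stabilizer_iff.1 g.2) _ hy
  let f : T →* T ⧸ H.subgroupOf T := QuotientGroup.mk' _
  let x' : T := ⟨x, MulAction.mem_stabilizer_iff.2 hx⟩
  have h1 : orderOf (f x') ∣ orderOf x := by
    have := orderOf_map_dvd f x'
    rwa [Subgroup.orderOf_mk] at this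
  have h2 : orderOf (f x') ∣ H.index := by
    refine (orderOf_dvd_natCard _).trans ?_
    have h3 : Nat.card (T ⧸ H.subgroupOf T) = H.relIndex T := rfl
    rw [h3]
    exact Subgroup.relIndex_dvd_index_of_le hHT
  have h4 : orderOf (f x') = 1 := (h.index.of_dvd h2).eq_one (ho.of_dvd h1)
  have h5 : x' ∈ H.subgroupOf T := (QuotientGroup.eq_one_iff x').1 (orderOf_eq_one_iff.1 h4)
  exact h5

theorem le_of (h : HD ω N H v) {X : Subgroup G} (hX : ∀ x ∈ X, x • v = v)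
    (ho : PiNum ωᶜ (Nat.card X)) : X ≤ H := by
  intro x hx
  refine h.mem (hX x hx) (ho.of_dvd ?_)
  have := orderOf_dvd_natCard (⟨x, hx⟩ : X)
  rwa [Subgroup.orderOf_mk] at this

end HD

/-- the action as a homomorphism -/
abbrev rho (G V : Type u) [Group G] [CommGroup V] [MulDistribMulAction G V] : G →* MulAut V :=
  MulDistribMulAction.toMulAut G V

theorem rho_apply (g : G) (v : V) : rho G V g v = g • v := rfl

theorem mem_ker_rho {g : G} : g ∈ (rho G V).ker ↔ ∀ v : V, g • v = v := by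
  rw [MonoidHom.mem_ker]
  constructor
  · intro h v
    rw [← rho_apply, h]
    rfl
  · intro h
    ext v
    exact h v

/-- The theorem on linear groups (task S4992-L). -/
def IrredHyp : Prop := ∀ (p : ℕ) [Fact p.Prime] (D : Type u) [Group D] [Finite D] (V : Type u)
  [CommGroup V] [Finite V] [Nontrivial V] [MulDistribMulAction D V] (F : Subgroup D) [F.Normal],
  (∀ v : V, v ^ p = 1) → (∀ d : D, (∀ v : V, d • v = v) → d = 1) →
  (∀ a ∈ F, ∀ b ∈ F, a * b = b * a) → ¬ p ∣ Nat.card F →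
  (∀ d : D, (∀ f ∈ F, d * f = f * d) → d ∈ F) →
  (∀ E : Subgroup D, E.Normal → Group.IsNilpotent E → E ≤ F) →
  (∀ v : V, v ≠ 1 → ∃ S : Sylow p D, (∀ x ∈ (S : Subgroup D), x • v = v) ∧
    ∀ d : D, d • v = v → ∀ x ∈ (S : Subgroup D), d * x * d⁻¹ ∈ (S : Subgroup D)) →
  p ∣ Nat.card D →
  (∀ S : Sylow p D, ∀ a ∈ (S : Subgroup D), ∀ b ∈ (S : Subgroup D), a * b = b * a) →
  ∀ W : Subgroup V, (∀ f ∈ F, ∀ w ∈ W, f • w ∈ W) → W = ⊥ ∨ W = ⊤

section bar

variable {ω : Set ℕ} {N : Subgroup G} (D : Subgroup G) [hDn : D.Normal]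

/-- the image of `D` in `MulAut V` -/
abbrev Db (V : Type u) [CommGroup V] [MulDistribMulAction G V] : Subgroup (MulAut V) :=
  D.map (rho G V)

/-- the image of `H ∩ D` -/
def Kb (V : Type u) [CommGroup V] [MulDistribMulAction G V] (H : Subgroup G) :
    Subgroup (Db D V) := ((H ⊓ D).map (rho G V)).subgroupOf (Db D V)

variable {D}

theorem mem_Kb {H : Subgroup G} {d : Db D V} :
    d ∈ Kb D V H ↔ ∃ g ∈ H, g ∈ D ∧ rho G V g = d := by
  unfold Kb
  rw [Subgroup.mem_subgroupOf, Subgroup.mem_map]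
  constructor
  · rintro ⟨g, hg, h⟩
    exact ⟨g, hg.1, hg.2, h⟩
  · rintro ⟨g, h1, h2, h⟩
    exact ⟨g, ⟨h1, h2⟩, h⟩

variable [Finite V]

theorem Kb_card {H : Subgroup G} {v : V} (h : HD ω N H v) : PiNum ωᶜ (Nat.card (Kb D V H)) := by
  refine h.card.of_dvd ?_
  have h1 : Nat.card (Kb D V H) = Nat.card ((H ⊓ D).map (rho G V)) :=
    Nat.card_congr (Subgroup.subgroupOfEquivOfLe (Subgroup.map_mono inf_le_right)).toEquiv
  rw [h1]
  exact (Subgroup.card_map_dvd _ _).trans (Subgroup.card_dvd_of_le inf_le_left)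

theorem Kb_index {H : Subgroup G} {v : V} (h : HD ω N H v) : PiNum ω (Kb D V H).index := by
  refine h.index.of_dvd ?_
  have h1 : (Kb D V H).index = ((H ⊓ D).map (rho G V)).relIndex (D.map (rho G V)) := rfl
  rw [h1]
  have h2 : ((H ⊓ D).map (rho G V)).relIndex (D.map (rho G V)) ∣ (H ⊓ D).relIndex D := by
    rw [← Subgroup.relIndex_comap]
    exact Subgroup.relIndex_dvd_of_le_left _ (Subgroup.le_comap_map _ _)
  refine h2.trans ?_
  rw [Subgroup.inf_relIndex_right]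
  exact H528.ClassSize.relIndex_dvd_index H D

theorem Kb_comm {H : Subgroup G} {v : V} (hNV : ∀ n ∈ N, ∀ v : V, n • v = v) (h : HD ω N H v) :
    ∀ a ∈ Kb D V H, ∀ b ∈ Kb D V H, a * b = b * a := by
  intro a ha b hb
  obtain ⟨x, hx, -, hxa⟩ := mem_Kb.1 ha
  obtain ⟨y, hy, -, hyb⟩ := mem_Kb.1 hb
  apply Subtype.ext
  rw [Subgroup.coe_mul, Subgroup.coe_mul, ← hxa, ← hyb]
  have h1 : x * y * x⁻¹ * y⁻¹ ∈ (rho G V).ker := mem_ker_rho.2 (hNV _ (h.comm x hx y hy))
  rw [MonoidHom.mem_ker, map_mul, map_mul, map_mul, map_inv, map_inv, mul_inv_eq_one,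
    mul_inv_eq_iff_eq_mul] at h1
  exact h1

theorem Kb_fix {H : Subgroup G} {v : V} (h : HD ω N H v) {d : Db D V} (hd : d ∈ Kb D V H) :
    d • v = v := by
  obtain ⟨x, hx, -, hxd⟩ := mem_Kb.1 hd
  show (d : MulAut V) v = v
  rw [← hxd]
  exact h.fix x hx

theorem Kb_norm {H : Subgroup G} {v : V} (h : HD ω N H v) {d : Db D V} (hd : d • v = v)
    {x : Db D V} (hx : x ∈ Kb D V H) : d * x * d⁻¹ ∈ Kb D V H := by
  obtain ⟨y, hy, hyD, hyx⟩ := mem_Kb.1 hx
  obtain ⟨g, hg, hgd⟩ := d.2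
  refine mem_Kb.2 ⟨g * y * g⁻¹, h.norm g ?_ y hy, hDn.conj_mem y hyD g, ?_⟩
  · have h1 : (d : MulAut V) v = v := hd
    rw [← hgd] at h1
    exact h1
  · rw [map_mul, map_mul, map_inv, hyx]
    show rho G V g * x * (rho G V g)⁻¹ = (d : MulAut V) * x * (d : MulAut V)⁻¹
    rw [← hgd]

/-- the Sylow `p`-subgroup in `Kb` -/
theorem exists_sylow {p : ℕ} [hp : Fact p.Prime] (hpω : p ∉ ω) {H : Subgroup G} {v : V}
    (hNV : ∀ n ∈ N, ∀ v : V, n • v = v) (h : HD ω N H v) :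
    ∃ S : Sylow p (Db D V), (S : Subgroup (Db D V)) ≤ Kb D V H ∧
      ∀ d : Db D V, d • v = v → ∀ x ∈ (S : Subgroup (Db D V)), d * x * d⁻¹ ∈ (S : Subgroup (Db D V)) := by
  classical
  -- the `p`-elements of the abelian group `Kb`
  obtain ⟨P⟩ : Nonempty (Sylow p (Kb D V H)) := inferInstance
  have hcomm := Kb_comm (D := D) hNV h
  have hPp : IsPGroup p ((P : Subgroup (Kb D V H)).map (Kb D V H).subtype) := P.isPGroup'.map _
  have hidx : ¬ p ∣ ((P : Subgroup (Kb D V H)).map (Kb D V H).subtype).index := by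
    rw [Subgroup.index_map_subtype]
    intro hd
    rcases hp.out.dvd_mul.1 hd with h1 | h1
    · exact P.not_dvd_index h1
    · exact hpω (Kb_index h p hp.out h1)
  refine ⟨hPp.toSylow hidx, ?_, ?_⟩
  · rintro _ ⟨x, -, rfl⟩
    exact x.2
  · rintro d hd _ ⟨x, hx, rfl⟩
    have h1 : d * (x : Db D V) * d⁻¹ ∈ Kb D V H := Kb_norm h hd x.2
    refine ⟨⟨_, h1⟩, ?_, rfl⟩
    -- a `p`-element of the abelian group
    have hPn : (P : Subgroup (Kb D V H)).Normal := ⟨fun n hn g => by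
      have : g * n = n * g := Subtype.ext (hcomm g g.2 n n.2)
      rw [this, mul_inv_cancel_right]; exact hn⟩
    obtain ⟨k, hk⟩ := P.isPGroup' ⟨x, hx⟩
    have hk' : x ^ p ^ k = 1 := congrArg Subtype.val hk
    have h2 : (⟨d * (x : Db D V) * d⁻¹, h1⟩ : Kb D V H) ^ p ^ k = 1 := by
      apply Subtype.ext
      show (d * (x : Db D V) * d⁻¹) ^ p ^ k = 1
      rw [conj_pow, ← Subgroup.coe_pow, hk', OneMemClass.coe_one, mul_one, mul_inv_cancel]
    have h3 : IsPGroup p (Subgroup.zpowers (⟨d * (x : Db D V) * d⁻¹, h1⟩ : Kb D V H)) := by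
      apply IsPGroup.of_card (n := ((orderOf (⟨d * (x : Db D V) * d⁻¹, h1⟩ : Kb D V H))).factorization p)
      rw [Nat.card_zpowers]
      obtain ⟨j, -, hj⟩ := (Nat.dvd_prime_pow hp.out).1 (orderOf_dvd_of_pow_eq_one h2)
      rw [hj]
      simp [hp.out.factorization]
    exact (IsPGroup.le_sylow_of_normal' h3 P hPn) (Subgroup.mem_zpowers _)
where
  IsPGroup.le_sylow_of_normal' {A : Type u} [Group A] [Finite A] {p : ℕ} [Fact p.Prime] {Q : Subgroup A}
      (hQ : IsPGroup p Q) (P : Sylow p A) (hP : (P : Subgroup A).Normal) : Q ≤ (P : Subgroup A) := by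
    obtain ⟨R, hR⟩ := hQ.exists_le_sylow
    obtain ⟨g, hg⟩ := MulAction.exists_smul_eq A P R
    have h1 : (R : Subgroup A) = (P : Subgroup A) := by
      rw [← hg, Sylow.coe_subgroup_smul]
      exact hP.conj_smul_eq_self g
    rw [← h1]
    exact hR

/-- `O_{ωᶜ}(D̄) = 1` -/
theorem eq_bot_of_pi [Nontrivial V] (hH : ∀ v : V, v ≠ 1 → ∃ H, HD ω N H v) (E : Subgroup (Db D V))
    [hE : E.Normal] (hEω : PiNum ωᶜ (Nat.card E)) : E = ⊥ := by
  rw [eq_bot_iff]
  intro d hd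
  rw [Subgroup.mem_bot]
  have hfix : ∀ v : V, (d : MulAut V) v = v := by
    intro v
    by_cases hv : v = 1
    · rw [hv, map_one]
    obtain ⟨H, h⟩ := hH v hv
    have h1 : E ≤ Kb D V H := by
      have h2 : (Kb D V H).relIndex E ∣ (Kb D V H).index :=
        H528.ClassSize.relIndex_dvd_index _ _
      have h3 : (Kb D V H).relIndex E ∣ Nat.card E := Subgroup.relIndex_dvd_card _ _
      have h4 : (Kb D V H).relIndex E = 1 :=
        ((Kb_index h).of_dvd h2).eq_one (hEω.of_dvd h3)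
      exact Subgroup.relIndex_eq_one.1 h4
    exact Kb_fix h (h1 hd)
  apply Subtype.ext
  ext v
  exact hfix v

end bar

section fit

variable {ω : Set ℕ} {N : Subgroup G} (D : Subgroup G) [hDn : D.Normal] [Finite V]

/-- the Fitting subgroup of `D̄` -/
abbrev Fb (V : Type u) [CommGroup V] [MulDistribMulAction G V] : Subgroup (Db D V) :=
  fittingSubgroup (Db D V)

/-- conjugation by `ρ g` on `D̄` -/
def conjD (V : Type u) [CommGroup V] [MulDistribMulAction G V] (g : G) : Db D V ≃* Db D V where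
  toFun d := ⟨rho G V g * d * (rho G V g)⁻¹, by
    obtain ⟨x, hx, hxd⟩ := d.2
    exact ⟨g * x * g⁻¹, hDn.conj_mem x hx g, by rw [map_mul, map_mul, map_inv, hxd]⟩⟩
  invFun d := ⟨(rho G V g)⁻¹ * d * rho G V g, by
    obtain ⟨x, hx, hxd⟩ := d.2
    refine ⟨g⁻¹ * x * g, ?_, by rw [map_mul, map_mul, map_inv, hxd]⟩
    have := hDn.conj_mem x hx g⁻¹
    rwa [inv_inv] at this⟩
  left_inv d := by
    apply Subtype.ext
    show (rho G V g)⁻¹ * (rho G V g * d * (rho G V g)⁻¹) * rho G V g = d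
    group
  right_inv d := by
    apply Subtype.ext
    show rho G V g * ((rho G V g)⁻¹ * d * rho G V g) * (rho G V g)⁻¹ = d
    group
  map_mul' a b := by
    apply Subtype.ext
    show rho G V g * (a * b : MulAut V) * (rho G V g)⁻¹ =
      (rho G V g * a * (rho G V g)⁻¹) * (rho G V g * b * (rho G V g)⁻¹)
    group

/-- the Fitting subgroup as a subgroup of `MulAut V` -/
def Fm (V : Type u) [CommGroup V] [MulDistribMulAction G V] : Subgroup (MulAut V) :=
  (Fb D V).map (Db D V).subtype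

variable {D}

theorem Fm_conj (g : G) {f : MulAut V} (hf : f ∈ Fm D V) :
    rho G V g * f * (rho G V g)⁻¹ ∈ Fm D V := by
  obtain ⟨x, hx, rfl⟩ := hf
  have h1 := Lib.Cores.map_equiv_fittingSubgroup (conjD D V g)
  have h2 : conjD D V g x ∈ Fb D V := by
    show conjD D V g x ∈ fittingSubgroup (Db D V)
    rw [← h1]
    exact ⟨x, hx, rfl⟩
  exact ⟨_, h2, rfl⟩

theorem Fb_pi [Nontrivial V] (hH : ∀ v : V, v ≠ 1 → ∃ H, HD ω N H v) :
    PiNum ω (Nat.card (Fb D V)) := by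
  intro q hq hqF
  by_contra hqω
  have : Fact q.Prime := ⟨hq⟩
  have : Finite (MulAut V) := inferInstance
  obtain ⟨Q⟩ : Nonempty (Sylow q (Fb D V)) := inferInstance
  have hnil : Group.IsNilpotent (Fb D V) := Lib.Cores.fittingSubgroup_isNilpotent
  have hQn : (Q : Subgroup (Fb D V)).Normal := inferInstance
  have hQc : (Q : Subgroup (Fb D V)).Characteristic := Sylow.characteristic_of_normal Q hQn
  have hFn : (Fb D V).Normal := Lib.Cores.fittingSubgroup_normal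
  have hEn : ((Q : Subgroup (Fb D V)).map (Fb D V).subtype).Normal :=
    ConjAct.normal_of_characteristic_of_normal
  have h1 : PiNum ωᶜ (Nat.card ((Q : Subgroup (Fb D V)).map (Fb D V).subtype)) := by
    obtain ⟨k, hk⟩ := IsPGroup.iff_card.1 (Q.isPGroup'.map (Fb D V).subtype)
    rw [hk]
    refine PiNum.pow (fun r hr hrq => ?_) k
    rw [(Nat.prime_dvd_prime_iff_eq hr hq).1 hrq]
    exact hqω
  have h2 := eq_bot_of_pi hH _ h1
  rw [Subgroup.map_eq_bot_iff_of_injective _ (Fb D V).subtype_injective] at h2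
  have h3 := Q.card_eq_multiplicity
  rw [h2, Subgroup.card_bot] at h3
  have h4 : (Nat.card (Fb D V)).factorization q ≠ 0 :=
    (hq.factorization_pos_of_dvd Nat.card_pos.ne' hqF).ne'
  have h5 : 1 < q ^ (Nat.card (Fb D V)).factorization q := Nat.one_lt_pow h4 hq.one_lt
  omega

/-- The hypothesis "Lemma N". -/
def LN (ω : Set ℕ) (N J : Subgroup G) : Prop :=
  ∀ X Y : Subgroup G, N ≤ X → X ≤ Y → Y ≤ J → (∀ g ∈ J, ∀ x ∈ X, g * x * g⁻¹ ∈ X) →
    (∀ g ∈ J, ∀ x ∈ Y, g * x * g⁻¹ ∈ Y) → PiNum ω (X.relIndex Y) →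
    ∀ a ∈ Y, ∀ b ∈ Y, a * b * a⁻¹ * b⁻¹ ∈ X

theorem Fm_comm [Nontrivial V] {J : Subgroup G} (hND : N ≤ D) (hDJ : D ≤ J) (hLN : LN ω N J)
    (hNV : ∀ n ∈ N, ∀ v : V, n • v = v) (hH : ∀ v : V, v ≠ 1 → ∃ H, HD ω N H v) :
    ∀ a ∈ Fm D V, ∀ b ∈ Fm D V, a * b = b * a := by
  have : Finite (MulAut V) := inferInstance
  have hmemD : ∀ f ∈ Fm D V, ∃ d ∈ D, rho G V d = f := by
    rintro _ ⟨x, -, rfl⟩
    obtain ⟨d, hd, hdx⟩ := x.2
    exact ⟨d, hd, hdx⟩
  have key := hLN (D ⊓ (rho G V).ker) (D ⊓ (Fm D V).comap (rho G V))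
    (le_inf hND fun n hn => mem_ker_rho.2 (hNV n hn))
    (inf_le_inf_left _ fun x hx => by
      rw [Subgroup.mem_comap, MonoidHom.mem_ker.1 hx]
      exact one_mem _)
    (inf_le_left.trans hDJ)
    (fun g _ x hx => ⟨hDn.conj_mem x hx.1 g, (inferInstance : (rho G V).ker.Normal).conj_mem x hx.2 g⟩)
    (fun g _ x hx => ⟨hDn.conj_mem x hx.1 g, by
      have := Fm_conj g (Subgroup.mem_comap.1 hx.2)
      show g * x * g⁻¹ ∈ (Fm D V).comap (rho G V)
      rw [Subgroup.mem_comap, map_mul, map_mul, map_inv]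
      exact this⟩) (by
    have h1 : (D ⊓ (rho G V).ker).relIndex (D ⊓ (Fm D V).comap (rho G V)) =
        (rho G V).ker.relIndex (D ⊓ (Fm D V).comap (rho G V)) := by
      rw [← Subgroup.inf_relIndex_right, inf_comm D (rho G V).ker, inf_assoc,
        ← inf_assoc D D, inf_idem, Subgroup.inf_relIndex_right]
    rw [h1, Subgroup.relIndex_ker]
    refine (Fb_pi (D := D) hH).of_dvd ?_
    have h2 : Nat.card (Fb D V) = Nat.card (Fm D V) :=
      Nat.card_congr ((Fb D V).equivMapOfInjective _ (Db D V).subtype_injective).toEquiv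
    rw [h2]
    refine Subgroup.card_dvd_of_le ?_
    rintro _ ⟨x, hx, rfl⟩
    exact hx.2)
  intro a ha b hb
  obtain ⟨x, hxD, rfl⟩ := hmemD a ha
  obtain ⟨y, hyD, rfl⟩ := hmemD b hb
  have h1 : x * y * x⁻¹ * y⁻¹ ∈ (rho G V).ker := (key x ⟨hxD, ha⟩ y ⟨hyD, hb⟩).2
  rw [MonoidHom.mem_ker, map_mul, map_mul, map_mul, map_inv, map_inv, mul_inv_eq_one,
    mul_inv_eq_iff_eq_mul] at h1
  exact h1

/-- Irreducibility of the Fitting subgroup. -/
theorem Fm_irr [Nontrivial V] (hirr : IrredHyp.{u}) {p : ℕ} [hp : Fact p.Prime] (hpω : p ∉ ω)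
    (hVp : ∀ v : V, v ^ p = 1) {J : Subgroup G} (hND : N ≤ D) (hDJ : D ≤ J) (hLN : LN ω N J)
    (hNV : ∀ n ∈ N, ∀ v : V, n • v = v) (hH : ∀ v : V, v ≠ 1 → ∃ H, HD ω N H v)
    (hsol : Group.IsSolvable G) (hpD : p ∣ Nat.card (Db D V)) :
    ∀ W : Subgroup V, (∀ f ∈ Fm D V, ∀ w ∈ W, f w ∈ W) → W = ⊥ ∨ W = ⊤ := by
  have : Finite (MulAut V) := inferInstance
  have hFc := Fm_comm hND hDJ hLN hNV hH
  have hFn : (Fb D V).Normal := Lib.Cores.fittingSubgroup_normal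
  have hsolD : Group.IsSolvable (Db D V) := by
    have h1 : Group.IsSolvable D := inferInstance
    exact Group.isSolvable_of_surjective (f := (rho G V).subgroupMap D)
      ((rho G V).subgroupMap_surjective D)
  intro W hW
  refine hirr p (Db D V) V (Fb D V) hVp ?_ ?_ ?_ ?_ ?_ ?_ hpD ?_ W ?_
  · intro d hd
    apply Subtype.ext
    ext v
    exact hd v
  · intro a ha b hb
    apply Subtype.ext
    exact hFc a ⟨a, ha, rfl⟩ b ⟨b, hb, rfl⟩
  · exact (Fb_pi hH).not_dvd hp.out hpω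
  · intro d hd
    refine Cfsg.Agent.S0044.result ?_
    rw [Subgroup.mem_centralizer_iff]
    intro f hf
    exact (hd f hf).symm
  · intro E hE hnil
    exact Lib.Cores.le_fittingSubgroup hE hnil
  · intro v hv
    obtain ⟨H, h⟩ := hH v hv
    obtain ⟨S, hS, hn⟩ := exists_sylow (D := D) hpω hNV h
    exact ⟨S, fun x hx => Kb_fix h (hS hx), hn⟩
  · intro S a ha b hb
    obtain ⟨v, hv⟩ := exists_ne (1 : V)
    obtain ⟨H, h⟩ := hH v hv
    obtain ⟨S', hS', -⟩ := exists_sylow (D := D) hpω hNV h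
    obtain ⟨g, rfl⟩ := MulAction.exists_smul_eq (Db D V) S' S
    rw [Sylow.coe_subgroup_smul] at ha hb
    obtain ⟨x, hx, rfl⟩ := ha
    obtain ⟨y, hy, rfl⟩ := hb
    have h1 := Kb_comm (D := D) hNV h x (hS' hx) y (hS' hy)
    show MulAut.conj g x * MulAut.conj g y = MulAut.conj g y * MulAut.conj g x
    rw [← map_mul, h1, map_mul]
  · intro f hf w hw
    exact hW f ⟨f, hf, rfl⟩ w hw

end fit

section main

variable {ω : Set ℕ} {N : Subgroup G} [Finite V]

/-- an abelian Hall subgroup of `G ⧸ N` from a section -/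
theorem abHall_of [hN : N.Normal] {X Y : Subgroup G} (hNX : N ≤ X) (hXY : X ≤ Y)
    (hX : ∀ g ∈ Y, ∀ x ∈ X, g * x * g⁻¹ ∈ X) (h1 : PiNum ωᶜ (N.relIndex X))
    (h2 : PiNum ω (X.relIndex Y)) (h3 : PiNum ωᶜ Y.index)
    (hab : ∀ a ∈ Y, ∀ b ∈ Y, a * b * a⁻¹ * b⁻¹ ∈ X) : AbHall ω (G ⧸ N) := by
  -- work in `Y / N`
  let Yb : Subgroup (G ⧸ N) := Y.map (QuotientGroup.mk' N)
  let Xb : Subgroup (G ⧸ N) := X.map (QuotientGroup.mk' N)
  have hXYb : Xb ≤ Yb := Subgroup.map_mono hXY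
  have hXn : (Xb.subgroupOf Yb).Normal := by
    refine ⟨?_⟩
    rintro ⟨z, hz⟩ hx ⟨_, g, hg, rfl⟩
    rw [Subgroup.mem_subgroupOf] at hx ⊢
    obtain ⟨x, hx1, hx2⟩ := hx
    have hx2' : QuotientGroup.mk' N x = z := hx2
    show QuotientGroup.mk' N g * z * (QuotientGroup.mk' N g)⁻¹ ∈ Xb
    rw [← hx2']
    exact ⟨g * x * g⁻¹, hX g hg x hx1, by rw [map_mul, map_mul, map_inv]⟩
  have hcX : Nat.card Xb = N.relIndex X := by
    have := Subgroup.relIndex_ker X (QuotientGroup.mk' N)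
    rw [QuotientGroup.ker_mk'] at this
    exact this.symm
  have hcY : Nat.card Yb = N.relIndex Y := by
    have := Subgroup.relIndex_ker Y (QuotientGroup.mk' N)
    rw [QuotientGroup.ker_mk'] at this
    exact this.symm
  have hXb : Nat.card (Xb.subgroupOf Yb) = N.relIndex X := by
    rw [← hcX]
    exact Nat.card_congr (Subgroup.subgroupOfEquivOfLe hXYb).toEquiv
  have hidx : (Xb.subgroupOf Yb).index = X.relIndex Y := by
    have h4 := (Xb.subgroupOf Yb).card_mul_index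
    rw [hXb, hcY, ← Subgroup.relIndex_mul_relIndex N X Y hNX hXY] at h4
    exact Nat.eq_of_mul_eq_mul_left (Nat.pos_of_ne_zero
      (Subgroup.index_ne_zero_of_finite (H := N.subgroupOf X))) h4
  have hcop : (Nat.card (Xb.subgroupOf Yb)).Coprime (Xb.subgroupOf Yb).index := by
    rw [hXb, hidx]
    exact (h2.coprime h1).symm
  obtain ⟨B, hB⟩ := Subgroup.exists_right_complement'_of_coprime hcop
  refine ⟨B.map Yb.subtype, ?_, ?_, ?_⟩
  · rintro _ ⟨a, ha, rfl⟩ _ ⟨b, hb, rfl⟩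
    have h4 : a * b * a⁻¹ * b⁻¹ ∈ Xb.subgroupOf Yb := by
      obtain ⟨⟨_, a', ha', rfl⟩, ha2⟩ : ∃ z : Yb, z = a := ⟨a, rfl⟩
      obtain ⟨⟨_, b', hb', rfl⟩, hb2⟩ : ∃ z : Yb, z = b := ⟨b, rfl⟩
      rw [← ha2, ← hb2, Subgroup.mem_subgroupOf]
      exact ⟨a' * b' * a'⁻¹ * b'⁻¹, hab a' ha' b' hb', by
        rw [map_mul, map_mul, map_mul, map_inv, map_inv]; rfl⟩
    have h5 : a * b * a⁻¹ * b⁻¹ ∈ B := mul_mem (mul_mem (mul_mem ha hb) (inv_mem ha)) (inv_mem hb)
    have h6 : a * b * a⁻¹ * b⁻¹ = 1 := by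
      have h7 : a * b * a⁻¹ * b⁻¹ ∈ (Xb.subgroupOf Yb) ⊓ B := ⟨h4, h5⟩
      rw [hB.disjoint.eq_bot, Subgroup.mem_bot] at h7
      exact h7
    rw [mul_inv_eq_one, mul_inv_eq_iff_eq_mul] at h6
    rw [← map_mul, h6, map_mul]
  · have h4 : Nat.card (B.map Yb.subtype) = Nat.card B :=
      (Nat.card_congr (B.equivMapOfInjective _ Yb.subtype_injective).toEquiv).symm
    rw [h4]
    have h5 := hB.card_mul_card
    have h6 := (Xb.subgroupOf Yb).card_mul_index
    rw [← h5] at h6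
    have h7 := Nat.eq_of_mul_eq_mul_left Nat.card_pos h6
    rw [← h7, hidx]
    exact h2
  · rw [Subgroup.index_map_subtype]
    have h5 := hB.card_mul_card
    have h6 := B.card_mul_index
    have h7 : B.index = N.relIndex X := by
      rw [← h5, mul_comm (Nat.card (Xb.subgroupOf Yb))] at h6
      rw [Nat.eq_of_mul_eq_mul_left Nat.card_pos h6, hXb]
    have h8 : Yb.index = Y.index := by
      have h9 : Yb.comap (QuotientGroup.mk' N) = Y := by
        rw [Subgroup.comap_map_eq, QuotientGroup.ker_mk', sup_eq_left.2 (hNX.trans hXY)]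
      have h10 := Subgroup.index_comap_of_surjective Yb (QuotientGroup.mk'_surjective N)
      rw [← h10, h9]
    rw [h7, h8]
    exact h1.mul h3

theorem relIndex_pi_of_le {C K L : Subgroup G} [hC : C.Normal] (hKL : K ≤ L) {ω : Set ℕ}
    (h : PiNum ω (C.relIndex L)) : PiNum ω (C.relIndex K) := by
  refine h.of_dvd ?_
  have h1 := Subgroup.relIndex_ker K (QuotientGroup.mk' C)
  have h2 := Subgroup.relIndex_ker L (QuotientGroup.mk' C)
  rw [QuotientGroup.ker_mk'] at h1 h2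
  rw [h1, h2]
  exact Subgroup.card_dvd_of_le (Subgroup.map_mono hKL)

/-- **Case B, the irreducible case.** -/
theorem caseB_irr [hN : N.Normal] [Nontrivial V] (hirr : IrredHyp.{u}) {p : ℕ} [hp : Fact p.Prime]
    (hpω : p ∉ ω) (hVp : ∀ v : V, v ^ p = 1) {D J : Subgroup G} [hDn : D.Normal] (hND : N ≤ D)
    (hDJ : D ≤ J) (hLN : LN ω N J) (hNV : ∀ n ∈ N, ∀ v : V, n • v = v)
    (hH : ∀ v : V, v ≠ 1 → ∃ H, HD ω N H v) (hsol : Group.IsSolvable G)
    (hpD : p ∣ Nat.card (Db D V)) (hJ : PiNum ωᶜ J.index) : AbHall ω (G ⧸ N) := by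
  classical
  have hFc := Fm_comm hND hDJ hLN hNV hH
  have hFirr := Fm_irr hirr hpω hVp hND hDJ hLN hNV hH hsol hpD
  obtain ⟨v, hv⟩ := exists_ne (1 : V)
  obtain ⟨H, h⟩ := hH v hv
  set C : Subgroup G := (rho G V).ker with hC
  have hCn : C.Normal := inferInstance
  -- the elements commuting with `F`
  let Y : Subgroup G := (Subgroup.centralizer (Fm D V : Set (MulAut V))).comap (rho G V)
  have hY : ∀ y : G, y ∈ Y ↔ ∀ f ∈ Fm D V, rho G V y * f = f * rho G V y := by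
    intro y
    rw [Subgroup.mem_comap, Subgroup.mem_centralizer_iff]
    exact forall₂_congr fun f _ => eq_comm
  have hCY : C ≤ Y := by
    intro c hc
    rw [hY, MonoidHom.mem_ker.1 hc]
    intro f _
    rw [one_mul, mul_one]
  have hcom : ∀ g k : G, g * k * g⁻¹ * k⁻¹ ∈ Y := by
    intro g k
    rw [hY, map_mul, map_mul, map_mul, map_inv, map_inv]
    exact H753.CommAutos.comm_autos (Fm D V) hFc hFirr (rho G V g) (rho G V k)
      (fun f hf => Fm_conj g hf) (fun f hf => Fm_conj k hf)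
  have hYn : Y.Normal := by
    refine ⟨fun y hy g => ?_⟩
    have h1 : g * y * g⁻¹ = (g * y * g⁻¹ * y⁻¹) * y := by group
    rw [h1]
    exact mul_mem (hcom g y) hy
  have hYfix : ∀ y ∈ Y, ∀ w : V, w ≠ 1 → y • w = w → y ∈ C := by
    intro y hy w hw hyw
    rw [hC, MonoidHom.mem_ker]
    exact H753.CommAutos.eq_one_of_fix (Fm D V) hFirr (rho G V y) ((hY y).1 hy) hw hyw
  have hHY : H ⊓ Y ≤ C := fun y hy => hYfix y hy.2 v hv (h.fix y hy.1)
  have hCYω : PiNum ω (C.relIndex Y) := by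
    refine h.index.of_dvd ((Subgroup.relIndex_dvd_of_le_left Y hHY).trans ?_)
    rw [Subgroup.inf_relIndex_right]
    exact H528.ClassSize.relIndex_dvd_index H Y
  -- `H ∩ C`
  have hHCn : (H ⊓ C).Normal := by
    refine ⟨fun x hx g => ?_⟩
    have h1 : g * x * g⁻¹ ∈ C := hCn.conj_mem x hx.2 g
    refine ⟨h.mem (mem_ker_rho.1 h1 v) ?_, h1⟩
    have h2 : orderOf (g * x * g⁻¹) = orderOf x := by
      rw [← MulAut.conj_apply, MulEquiv.orderOf_eq]
    rw [h2]
    refine h.card.of_dvd ?_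
    have := orderOf_dvd_natCard (⟨x, hx.1⟩ : H)
    rwa [Subgroup.orderOf_mk] at this
  have hHCω : PiNum ω ((H ⊓ C).relIndex C) := by
    rw [Subgroup.inf_relIndex_right]
    exact h.index.of_dvd (H528.ClassSize.relIndex_dvd_index H C)
  have hNC : N ≤ C := fun n hn => mem_ker_rho.2 (hNV n hn)
  have hNJ : N ≤ J := hND.trans hDJ
  -- `J / (Y ∩ J)` is an `ωᶜ`-group
  have hYJ : PiNum ωᶜ (Y.relIndex J) := by
    intro q hq hqd hqω
    have : Fact q.Prime := ⟨hq⟩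
    let Q := J ⧸ Y.subgroupOf J
    have hcard : Nat.card Q = Y.relIndex J := rfl
    obtain ⟨gb, hgb⟩ := exists_prime_orderOf_dvd_card' (G := Q) q (by rw [hcard]; exact hqd)
    obtain ⟨g, rfl⟩ := QuotientGroup.mk'_surjective (Y.subgroupOf J) gb
    have hgY : (g : G) ∉ Y := by
      intro hg
      have h1 : QuotientGroup.mk' (Y.subgroupOf J) g = 1 := (QuotientGroup.eq_one_iff g).2 hg
      rw [h1, orderOf_one] at hgb
      exact hq.one_lt.ne hgb
    let Zs : Subgroup J := (Subgroup.zpowers (QuotientGroup.mk' (Y.subgroupOf J) g)).comap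
      (QuotientGroup.mk' (Y.subgroupOf J))
    let Z : Subgroup G := Zs.map J.subtype
    have hYZ : Y ⊓ J ≤ Z := by
      intro y hy
      refine ⟨⟨y, hy.2⟩, ?_, rfl⟩
      show QuotientGroup.mk' (Y.subgroupOf J) ⟨y, hy.2⟩ ∈ Subgroup.zpowers _
      have h1 : QuotientGroup.mk' (Y.subgroupOf J) ⟨y, hy.2⟩ = 1 :=
        (QuotientGroup.eq_one_iff _).2 hy.1
      rw [h1]
      exact one_mem _
    have hgZ : (g : G) ∈ Z := ⟨g, Subgroup.mem_zpowers _, rfl⟩
    have hZJ : Z ≤ J := by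
      rintro _ ⟨z, -, rfl⟩
      exact z.2
    have hrel : (Y ⊓ J).relIndex Z = q := by
      have h1 : (Y ⊓ J).relIndex Z = ((Y ⊓ J).subgroupOf J).relIndex Zs := by
        have h2 := Subgroup.relIndex_map_map_of_injective ((Y ⊓ J).subgroupOf J) Zs J.subtype_injective
        rw [← h2, Subgroup.subgroupOf_map_subtype, inf_assoc, inf_idem]
      have h3 : (Y ⊓ J).subgroupOf J = Y.subgroupOf J := Subgroup.inf_subgroupOf_right Y J
      rw [h1, h3]
      have h4 := Subgroup.relIndex_ker Zs (QuotientGroup.mk' (Y.subgroupOf J))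
      rw [QuotientGroup.ker_mk'] at h4
      rw [h4, Subgroup.map_comap_eq_self_of_surjective (QuotientGroup.mk'_surjective _),
        Nat.card_zpowers, hgb]
    have hcomm := hLN (C ⊓ J) Z (le_inf hNC hNJ) ((inf_le_inf_right J hCY).trans hYZ) hZJ
      (fun x hx c hc => ⟨hCn.conj_mem c hc.1 x, J.mul_mem (J.mul_mem hx hc.2) (J.inv_mem hx)⟩)
      (by
        rintro x hx _ ⟨z, hz, rfl⟩
        have h1 : (x * (z : G) * x⁻¹ * (z : G)⁻¹) ∈ Z :=
          hYZ ⟨hcom x z, J.mul_mem (J.mul_mem (J.mul_mem hx z.2) (J.inv_mem hx)) (J.inv_mem z.2)⟩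
        have h2 : x * (z : G) * x⁻¹ = (x * (z : G) * x⁻¹ * (z : G)⁻¹) * z := by group
        show x * (z : G) * x⁻¹ ∈ Z
        rw [h2]
        exact mul_mem h1 ⟨z, hz, rfl⟩)
      (by
        rw [← Subgroup.relIndex_mul_relIndex (C ⊓ J) (Y ⊓ J) Z (inf_le_inf_right J hCY) hYZ, hrel]
        refine PiNum.mul ?_ (fun r hr hrq => ?_)
        · have h1 : (C ⊓ J).relIndex (Y ⊓ J) = C.relIndex (Y ⊓ J) := by
            rw [← Subgroup.inf_relIndex_right (C ⊓ J), ← Subgroup.inf_relIndex_right C]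
            congr 1
            rw [inf_assoc, inf_comm Y J, ← inf_assoc J J, inf_idem]
          rw [h1]
          exact relIndex_pi_of_le inf_le_left hCYω
        · rw [(Nat.prime_dvd_prime_iff_eq hr hq).1 hrq]
          exact hqω)
    apply hgY
    rw [hY]
    intro f hf
    obtain ⟨d, hdD, rfl⟩ : ∃ d ∈ D, rho G V d = f := by
      obtain ⟨x, -, rfl⟩ := hf
      obtain ⟨d, hd, hdx⟩ := x.2
      exact ⟨d, hd, hdx⟩
    have hdY : d ∈ Y := (hY d).2 fun f' hf' => hFc _ hf _ hf'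
    have h1 := (hcomm g hgZ d (hYZ ⟨hdY, hDJ hdD⟩)).1
    have h2 : (g : G) * d * (g : G)⁻¹ * d⁻¹ ∈ (rho G V).ker := h1
    rw [MonoidHom.mem_ker, map_mul, map_mul, map_mul, map_inv, map_inv, mul_inv_eq_one,
      mul_inv_eq_iff_eq_mul] at h2
    exact h2
  -- the final section
  have hXY : (H ⊓ C) ⊓ J ≤ Y ⊓ J := inf_le_inf_right J (inf_le_right.trans hCY)
  have hXC : (H ⊓ C) ⊓ J ≤ C ⊓ J := inf_le_inf_right J inf_le_right
  have hrelω : PiNum ω (((H ⊓ C) ⊓ J).relIndex (Y ⊓ J)) := by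
    rw [← Subgroup.relIndex_mul_relIndex ((H ⊓ C) ⊓ J) (C ⊓ J) (Y ⊓ J) hXC (inf_le_inf_right J hCY)]
    refine PiNum.mul ?_ ?_
    · have h1 : ((H ⊓ C) ⊓ J).relIndex (C ⊓ J) = (H ⊓ C).relIndex (C ⊓ J) := by
        rw [← Subgroup.inf_relIndex_right ((H ⊓ C) ⊓ J), ← Subgroup.inf_relIndex_right (H ⊓ C)]
        congr 1
        rw [inf_assoc, inf_comm C J, ← inf_assoc J J, inf_idem]
      rw [h1]
      exact relIndex_pi_of_le inf_le_left hHCω
    · have h1 : (C ⊓ J).relIndex (Y ⊓ J) = C.relIndex (Y ⊓ J) := by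
        rw [← Subgroup.inf_relIndex_right (C ⊓ J), ← Subgroup.inf_relIndex_right C]
        congr 1
        rw [inf_assoc, inf_comm Y J, ← inf_assoc J J, inf_idem]
      rw [h1]
      exact relIndex_pi_of_le inf_le_left hCYω
  have hXn : ∀ g ∈ J, ∀ x ∈ (H ⊓ C) ⊓ J, g * x * g⁻¹ ∈ (H ⊓ C) ⊓ J := fun g hg x hx =>
    ⟨hHCn.conj_mem x hx.1 g, J.mul_mem (J.mul_mem hg hx.2) (J.inv_mem hg)⟩
  have hYn' : ∀ g ∈ J, ∀ x ∈ Y ⊓ J, g * x * g⁻¹ ∈ Y ⊓ J := fun g hg x hx =>
    ⟨hYn.conj_mem x hx.1 g, J.mul_mem (J.mul_mem hg hx.2) (J.inv_mem hg)⟩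
  have hNX : N ≤ (H ⊓ C) ⊓ J := le_inf (le_inf h.le hNC) hNJ
  have hcomm := hLN ((H ⊓ C) ⊓ J) (Y ⊓ J) hNX hXY inf_le_right hXn hYn' hrelω
  refine abHall_of hNX hXY (fun g hg => hXn g hg.2) ?_ hrelω ?_ hcomm
  · refine h.card.of_dvd ((Subgroup.relIndex_dvd_card _ _).trans ?_)
    exact Subgroup.card_dvd_of_le (inf_le_left.trans inf_le_left)
  · rw [← Subgroup.relIndex_mul_index (inf_le_right : Y ⊓ J ≤ J), Subgroup.inf_relIndex_right]
    exact hYJ.mul hJ

/-- **Case B, the other case**: the Sylow `p`-subgroups of `D` act trivially; then the Sylow `p`-subgroup of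
`D` is normal in `G`. -/
theorem caseB_normal [hN : N.Normal] [Nontrivial V] {p : ℕ} [hp : Fact p.Prime]
    (hpω : p ∉ ω) {D : Subgroup G} [hDn : D.Normal] (hND : N ≤ D) (hNp : IsPGroup p N)
    (hH : ∀ v : V, v ≠ 1 → ∃ H, HD ω N H v)
    (hpD : ¬ p ∣ Nat.card (Db D V)) : ∃ S : Subgroup G, S.Normal ∧ N ≤ S ∧ S ≤ D ∧ IsPGroup p S ∧
      ¬ p ∣ S.relIndex D ∧ ∀ a ∈ S, ∀ b ∈ S, a * b * a⁻¹ * b⁻¹ ∈ N := by
  classical
  obtain ⟨v, hv⟩ := exists_ne (1 : V)
  obtain ⟨H, h⟩ := hH v hv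
  -- `p`-elements of `D` act trivially
  have hker : ∀ x ∈ D, (∃ k : ℕ, x ^ p ^ k = 1) → x ∈ (rho G V).ker := by
    rintro x hx ⟨k, hk⟩
    have h1 : orderOf (⟨rho G V x, ⟨x, hx, rfl⟩⟩ : Db D V) ∣ p ^ k := by
      refine orderOf_dvd_of_pow_eq_one (Subtype.ext ?_)
      show (rho G V x) ^ p ^ k = 1
      rw [← map_pow, hk, map_one]
    have h2 : orderOf (⟨rho G V x, ⟨x, hx, rfl⟩⟩ : Db D V) ∣ Nat.card (Db D V) :=
      orderOf_dvd_natCard _
    have h3 : (Nat.card (Db D V)).Coprime (p ^ k) :=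
      Nat.Coprime.pow_right k ((Nat.Prime.coprime_iff_not_dvd hp.out).2 hpD).symm
    have h4 := Nat.eq_one_of_dvd_coprimes h3 h2 h1
    rw [orderOf_eq_one_iff] at h4
    rw [MonoidHom.mem_ker]
    exact congrArg Subtype.val h4
  have hmemH : ∀ x ∈ D, (∃ k : ℕ, x ^ p ^ k = 1) → x ∈ H := by
    rintro x hx ⟨k, hk⟩
    refine h.mem (mem_ker_rho.1 (hker x hx ⟨k, hk⟩) v) ?_
    refine (PiNum.pow (m := p) (fun q hq hqp => ?_) k).of_dvd (orderOf_dvd_of_pow_eq_one hk)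
    rw [(Nat.prime_dvd_prime_iff_eq hq hp.out).1 hqp]
    exact hpω
  -- a Sylow `p`-subgroup of `D`
  obtain ⟨P⟩ : Nonempty (Sylow p D) := inferInstance
  have hPp := P.isPGroup'
  have hNP : N.subgroupOf D ≤ (P : Subgroup D) := by
    have h1 : IsPGroup p (N.subgroupOf D) := hNp.comap_subtype (K := D)
    have : (N.subgroupOf D).Normal := inferInstance
    exact h1.le_sylow_of_normal P
  have hcom : ∀ a ∈ D, ∀ b ∈ D, (∃ k : ℕ, a ^ p ^ k = 1) → (∃ k : ℕ, b ^ p ^ k = 1) →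
      a * b * a⁻¹ * b⁻¹ ∈ N := fun a ha b hb ha' hb' =>
    h.comm a (hmemH a ha ha') b (hmemH b hb hb')
  have hpw : ∀ x : D, x ∈ (P : Subgroup D) → ∃ k : ℕ, (x : G) ^ p ^ k = 1 := by
    intro x hx
    obtain ⟨k, hk⟩ := hPp ⟨x, hx⟩
    refine ⟨k, ?_⟩
    have h1 := congrArg Subtype.val hk
    have h2 : x ^ p ^ k = 1 := h1
    rw [← Subgroup.coe_pow, h2, OneMemClass.coe_one]
  -- any `p`-element of `D` lies in `P`
  have hall : ∀ x : D, (∃ k : ℕ, (x : G) ^ p ^ k = 1) → x ∈ (P : Subgroup D) := by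
    intro x hx
    obtain ⟨k, hk⟩ := hx
    have hnorm : ∀ y ∈ (P : Subgroup D), x * y * x⁻¹ ∈ (P : Subgroup D) := by
      intro y hy
      have h1 : (x : G) * y * (x : G)⁻¹ * (y : G)⁻¹ ∈ N := hcom x x.2 y y.2 ⟨k, hk⟩ (hpw y hy)
      have h2 : x * y * x⁻¹ * y⁻¹ ∈ (P : Subgroup D) := hNP h1
      have h3 : x * y * x⁻¹ = (x * y * x⁻¹ * y⁻¹) * y := by group
      rw [h3]
      exact mul_mem h2 hy
    have hQ : IsPGroup p (Subgroup.zpowers x) := by
      apply IsPGroup.of_card (n := (orderOf x).factorization p)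
      rw [Nat.card_zpowers]
      have hx1 : x ^ p ^ k = 1 := Subtype.ext (by rw [Subgroup.coe_pow, hk]; rfl)
      obtain ⟨j, -, hj⟩ := (Nat.dvd_prime_pow hp.out).1 (orderOf_dvd_of_pow_eq_one hx1)
      rw [hj]
      simp [hp.out.factorization]
    have hsup : IsPGroup p (Subgroup.zpowers x ⊔ (P : Subgroup D) : Subgroup D) := by
      refine hQ.to_sup_of_normal_right' hPp ?_
      rw [Subgroup.zpowers_le, Subgroup.mem_normalizer_iff]
      intro y
      refine ⟨hnorm y, fun hy => ?_⟩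
      -- the conjugation is injective on the finite group
      have h4 : ∀ n : ℕ, ∀ z ∈ (P : Subgroup D), x ^ n * z * (x ^ n)⁻¹ ∈ (P : Subgroup D) := by
        intro n
        induction n with
        | zero => intro z hz; simpa using hz
        | succ n ih =>
          intro z hz
          have h5 : x ^ (n + 1) * z * (x ^ (n + 1))⁻¹ = x * (x ^ n * z * (x ^ n)⁻¹) * x⁻¹ := by
            rw [pow_succ']; group
          rw [h5]
          exact hnorm _ (ih z hz)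
      have h6 := h4 (orderOf x - 1) _ hy
      have h7 : x ^ (orderOf x - 1) = x⁻¹ := by
        have h8 : x ^ (orderOf x - 1) * x = 1 := by
          rw [← pow_succ, Nat.sub_add_cancel (orderOf_pos x), pow_orderOf_eq_one]
        exact eq_inv_of_mul_eq_one_left h8
      rw [h7] at h6
      have h9 : x⁻¹ * (x * y * x⁻¹) * (x⁻¹)⁻¹ = y := by group
      rwa [h9] at h6
    have h10 : (P : Subgroup D) = Subgroup.zpowers x ⊔ (P : Subgroup D) :=
      (P.is_maximal' hsup le_sup_right).symm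
    rw [h10]
    exact Subgroup.mem_sup_left (Subgroup.mem_zpowers x)
  refine ⟨(P : Subgroup D).map D.subtype, ⟨?_⟩, ?_, ?_, hPp.map _, ?_, ?_⟩
  · rintro _ ⟨x, hx, rfl⟩ g
    obtain ⟨k, hk⟩ := hpw x hx
    refine ⟨⟨g * x * g⁻¹, hDn.conj_mem x x.2 g⟩, hall _ ⟨k, ?_⟩, rfl⟩
    show (g * (x : G) * g⁻¹) ^ p ^ k = 1
    rw [conj_pow, hk, mul_one, mul_inv_cancel]
  · intro n hn
    exact ⟨⟨n, hND hn⟩, hNP hn, rfl⟩
  · rintro _ ⟨x, -, rfl⟩
    exact x.2
  · have h1 : ((P : Subgroup D).map D.subtype).relIndex D = (P : Subgroup D).index := by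
      rw [Subgroup.relIndex, Subgroup.subgroupOf, Subgroup.comap_map_eq_self_of_injective
        D.subtype_injective]
    rw [h1]
    exact P.not_dvd_index
  · rintro _ ⟨a, ha, rfl⟩ _ ⟨b, hb, rfl⟩
    exact hcom a a.2 b b.2 (hpw a ha) (hpw b hb)

end main

end Cfsg.Agent.H726.Rel.CB
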