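import Cfsg.Agent.H726.Rel.CaseB
import Cfsg.Agent.H726.Rel.Assemble
import Cfsg.Agent.H753.Irred
import Cfsg.Agent.H158.Gla
import Cfsg.Agent.H353.DiscCaseA

/-!
# S4992: assembly (helper726)
-/

set_option autoImplicit false
set_option linter.unusedSectionVars false

open Cfsg
open scoped Pointwise

namespace Cfsg.Agent.H726.Rel.CB

open Cfsg.Agent.H672
open Cfsg.Agent.Characters.Core Cfsg.Agent.Characters.Clifford

universe u

theorem irredHyp : IrredHyp.{u} := fun _ _ _ _ _ _ _ _ _ _ F _ h1 h2 h3 h4 h5 h6 h7 h8 h9 =>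
  H753.Irr.irred h1 h2 F h3 h4 h5 h6 h7 h8 h9

variable {G : Type u} [Group G] [Finite G] {N : Subgroup G} [hN : N.Normal]

section dual

attribute [local instance] H673.dualAct

/-- the linear characters of order dividing `p` -/
def Vp (p : ℕ) (N : Subgroup G) : Subgroup (N →* ℂˣ) where
  carrier := {l | ∀ x, l x ^ p = 1}
  one_mem' := fun x => by rw [MonoidHom.one_apply, one_pow]
  mul_mem' := fun {a b} ha hb x => by
    show (a x * b x) ^ p = 1
    rw [mul_pow, ha x, hb x, one_mul]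
  inv_mem' := fun {a} ha x => by
    show (a x)⁻¹ ^ p = 1
    rw [inv_pow, ha x, inv_one]

/-- the action -/
@[reducible] def VpAct (p : ℕ) (N : Subgroup G) [N.Normal] : MulDistribMulAction G (Vp p N) where
  smul g l := ⟨g • (l : N →* ℂˣ), fun x => by
    rw [H673.smul_apply]
    exact l.2 _⟩
  one_smul l := Subtype.ext (one_smul G (l : N →* ℂˣ))
  mul_smul g h l := Subtype.ext (mul_smul g h (l : N →* ℂˣ))
  smul_one g := Subtype.ext (smul_one g)
  smul_mul g a b := Subtype.ext (smul_mul' g (a : N →* ℂˣ) (b : N →* ℂˣ))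

attribute [local instance] VpAct

theorem VpAct_coe (p : ℕ) (g : G) (l : Vp p N) : ((g • l : Vp p N) : N →* ℂˣ) = g • (l : N →* ℂˣ) := rfl

theorem smul_dual_of_mem {g : G} (hg : g ∈ N) (l : N →* ℂˣ) : g • l = l := by
  ext n
  rw [H673.smul_apply]
  have h1 : (MulAut.conjNormal g⁻¹ n : N) = (⟨g, hg⟩ : N)⁻¹ * n * ⟨g, hg⟩ := by
    apply Subtype.ext
    rw [MulAut.conjNormal_apply, inv_inv]
    rfl
  rw [h1, map_mul, map_mul, map_inv, mul_comm (l (⟨g, hg⟩ : N))⁻¹, mul_assoc, inv_mul_cancel, mul_one]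

/-- Lemma N for subgroups of `J`. -/
theorem ln_of {θ : N → ℂ} (hθ : IsIrrCharacter N θ) {ω : Set ℕ}
    (hdeg : ∀ χ : G → ℂ, IsIrrCharacter G χ → Over N.subtype χ θ → PiNum ωᶜ (charDegree χ)) :
    LN ω N (inertia N θ) := by
  intro X Y hNX hXY hYJ hX hY hi a ha b hb
  have hNJ : N ≤ inertia N θ := hNX.trans (hXY.trans hYJ)
  let e := Subgroup.subgroupOfEquivOfLe hNJ
  have hθ' : IsIrrCharacter (N.subgroupOf (inertia N θ)) (θ ∘ e) :=
    isIrr_comp (e : N.subgroupOf (inertia N θ) →* N) e.surjective hθ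
  have hXn : (X.subgroupOf (inertia N θ)).Normal :=
    ⟨fun x hx g => Subgroup.mem_subgroupOf.2 (hX g g.2 _ (Subgroup.mem_subgroupOf.1 hx))⟩
  have hYn : (Y.subgroupOf (inertia N θ)).Normal :=
    ⟨fun x hx g => Subgroup.mem_subgroupOf.2 (hY g g.2 _ (Subgroup.mem_subgroupOf.1 hx))⟩
  have key := H893.RelU.lemmaN (J := inertia N θ) (N := N.subgroupOf (inertia N θ))
    (X := X.subgroupOf (inertia N θ)) (Y := Y.subgroupOf (inertia N θ)) (θ := θ ∘ e) (ω := ωᶜ)
    (fun x hx => Subgroup.mem_subgroupOf.2 (hNX (Subgroup.mem_subgroupOf.1 hx)))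
    (fun x hx => Subgroup.mem_subgroupOf.2 (hXY (Subgroup.mem_subgroupOf.1 hx))) hθ'
    (fun χ hχ ho => by
      have h1 : Over (Subgroup.inclusion hNJ) χ θ := by
        have h2 := (over_comp_equiv (Subgroup.inclusion hNJ) e χ θ).1
        apply h2
        have e1 : (Subgroup.inclusion hNJ).comp e.toMonoidHom =
            (N.subgroupOf (inertia N θ)).subtype := by
          ext x; rfl
        rw [e1]
        exact ho
      have h2 := H893.RelU.deg_inertia N hθ hdeg hNJ hχ h1
      refine h2.of_dvd (Nat.div_dvd_of_dvd ?_)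
      exact (charDegree_dvd_of_over (N.subgroupOf (inertia N θ)) hχ hθ' ho).1)
    (by
      rw [compl_compl]
      have h3 : (X.subgroupOf (inertia N θ)).relIndex (Y.subgroupOf (inertia N θ)) = X.relIndex Y := by
        have h4 := Subgroup.relIndex_comap X (inertia N θ).subtype (Y.subgroupOf (inertia N θ))
        have h5 : (Y.subgroupOf (inertia N θ)).map (inertia N θ).subtype = Y := by
          rw [Subgroup.subgroupOf_map_subtype, inf_eq_left.2 hYJ]
        rw [h5] at h4
        exact h4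
      rw [h3]
      exact hi)
  exact Subgroup.mem_subgroupOf.1 (key ⟨a, hYJ ha⟩ (Subgroup.mem_subgroupOf.2 ha) ⟨b, hYJ hb⟩
    (Subgroup.mem_subgroupOf.2 hb))

theorem abHall_transfer {J : Subgroup G} {ω : Set ℕ} (hNJ : N ≤ J) (hJ : PiNum ωᶜ J.index)
    (h : AbHall ω (J ⧸ N.subgroupOf J)) : AbHall ω (G ⧸ N) := by
  obtain ⟨B, hB1, hB2, hB3⟩ := h
  let f : J ⧸ N.subgroupOf J →* G ⧸ N := QuotientGroup.map (N.subgroupOf J) N J.subtype (fun x hx => hx)
  have hf : Function.Injective f := by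
    rw [injective_iff_map_eq_one]
    intro x hx
    obtain ⟨x, rfl⟩ := QuotientGroup.mk_surjective x
    have h1 : ((x : G) : G ⧸ N) = 1 := hx
    exact (QuotientGroup.eq_one_iff x).2 ((QuotientGroup.eq_one_iff (x : G)).1 h1)
  refine ⟨B.map f, ?_, ?_, ?_⟩
  · rintro _ ⟨a, ha, rfl⟩ _ ⟨b, hb, rfl⟩
    rw [← map_mul, hB1 a ha b hb, map_mul]
  · rw [Nat.card_congr (B.equivMapOfInjective f hf).toEquiv.symm]
    exact hB2
  · rw [Subgroup.index_map_of_injective B hf]
    refine hB3.mul ?_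
    have h1 : f.range.comap (QuotientGroup.mk' N) = J := by
      ext x
      rw [Subgroup.mem_comap, MonoidHom.mem_range]
      constructor
      · rintro ⟨y, hy⟩
        obtain ⟨y, rfl⟩ := QuotientGroup.mk_surjective y
        have h2 : ((y : G) : G ⧸ N) = ((x : G) : G ⧸ N) := hy
        have h3 := hNJ (QuotientGroup.eq.1 h2)
        have h4 := J.mul_mem y.2 h3
        rwa [mul_inv_cancel_left] at h4
      · intro hx
        exact ⟨((⟨x, hx⟩ : J) : J ⧸ N.subgroupOf J), rfl⟩
    have h2 := Subgroup.index_comap_of_surjective f.range (QuotientGroup.mk'_surjective N)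
    rw [← h2, h1]
    exact hJ

theorem exists_nonlinear (hna : ¬ IsMulCommutative N) :
    ∃ θ : N → ℂ, IsIrrCharacter N θ ∧ charDegree θ ≠ 1 := by
  by_contra hcon
  push Not at hcon
  exact hna ⟨⟨H596.comm_of_charDegree_eq_one fun χ => hcon _ χ.2⟩⟩

/-- **S4992**, from the types. -/
theorem main92_aux (hIM : IMT.{u}) {p : ℕ} [hp : Fact p.Prime]
    (hNp : IsPGroup p N) (hNna : ¬ IsMulCommutative N) {ω : Set ℕ} (hpω : p ∉ ω) (h : Disc ω N)
    (hsolq : Group.IsSolvable (G ⧸ N)) :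
    ∃ A B : Subgroup (G ⧸ N), IsMulCommutative ↥A ∧ IsMulCommutative ↥B ∧
      Nat.Coprime (Nat.card ↥A) (Nat.card ↥B) ∧ (A : Set (G ⧸ N)) * (B : Set (G ⧸ N)) = Set.univ := by
  classical
  obtain ⟨k, hk⟩ := IsPGroup.iff_card.1 hNp
  have hNω : PiNum ωᶜ (Nat.card N) := by
    rw [hk]
    refine PiNum.pow (fun q hq hqp => ?_) k
    rw [(Nat.prime_dvd_prime_iff_eq hq hp.out).1 hqp]
    exact hpω
  by_cases hA : ∃ l : N →* ℂˣ, l ≠ 1 ∧ ∀ χ : G → ℂ, IsIrrCharacter G χ →
      Over N.subtype χ (lf l) → PiNum ωᶜ (charDegree χ)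
  · obtain ⟨l, hl, hty⟩ := hA
    exact H353.DiscA.caseA hIM hNp hpω h hl hty
  have hlin : ∀ l : N →* ℂˣ, l ≠ 1 → ∀ χ : G → ℂ, IsIrrCharacter G χ →
      Over N.subtype χ (lf l) → PiNum ω (charDegree χ) := by
    intro l hl
    rcases h.one_type le_rfl (isIrr_lf l) (lf_ne_one hl) with h1 | h1
    · exact h1
    · exact absurd ⟨l, hl, h1⟩ hA
  -- a nonlinear character
  obtain ⟨θ, hθ, hθ1⟩ := exists_nonlinear hNna
  have hpθ : p ∣ charDegree θ := (H670.PSing.charDegree_pgroup hNp hθ).resolve_left hθ1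
  have hty : ∀ χ : G → ℂ, IsIrrCharacter G χ → Over N.subtype χ θ → PiNum ωᶜ (charDegree χ) := by
    rcases h.one_type le_rfl hθ (one_ne_of_charDegree hθ1) with h1 | h1
    · exfalso
      obtain ⟨χ, hχ, ho⟩ := exists_over N θ hθ
      exact hpω (h1 χ hχ ho p hp.out (hpθ.trans (charDegree_dvd_of_over N hχ hθ ho).1))
    · exact h1
  -- `V`
  have hNne : N ≠ ⊥ := by
    rintro rfl
    exact hNna ⟨⟨fun a b => Subsingleton.elim _ _⟩⟩
  have hfin : Finite (N →* ℂˣ) := H673.finite_dual N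
  have hfinV : Finite (Vp p N) := inferInstance
  have hpm : p ∣ (commutator N).index := by
    have : Nontrivial N := (Subgroup.nontrivial_iff_ne_bot N).2 hNne
    have h2 : (commutator N).index ∣ p ^ k := by
      rw [← hk]
      exact Subgroup.index_dvd_card _
    obtain ⟨j, -, hj⟩ := (Nat.dvd_prime_pow hp.out).1 h2
    rcases Nat.eq_zero_or_pos j with h0 | h0
    · exfalso
      rw [h0, pow_zero, Subgroup.index_eq_one] at hj
      have h3 : Group.IsNilpotent N := hNp.isNilpotent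
      have h4 : Group.IsSolvable N := inferInstance
      exact (ne_of_lt (Group.IsSolvable.commutator_lt_top_of_nontrivial N)) hj
    · rw [hj]
      exact dvd_pow_self p h0.ne'
  obtain ⟨l0, hl0, hl0p⟩ := exists_lin_order hpm
  have hntV : Nontrivial (Vp p N) := ⟨⟨l0, hl0p⟩, 1, fun h1 => hl0 (congrArg Subtype.val h1)⟩
  have hVp : ∀ v : Vp p N, v ^ p = 1 := by
    intro v
    apply Subtype.ext
    ext x
    have h1 := v.2 x
    show (((v : N →* ℂˣ) x ^ p : ℂˣ) : ℂ) = _
    rw [h1]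
    rfl
  have hNV : ∀ n ∈ N, ∀ v : Vp p N, n • v = v := fun n hn v =>
    Subtype.ext (smul_dual_of_mem hn (v : N →* ℂˣ))
  have hHD : ∀ v : Vp p N, v ≠ 1 → ∃ H, HD ω N H v := by
    intro v hv
    have hv1 : (v : N →* ℂˣ) ≠ 1 := fun h1 => hv (Subtype.ext h1)
    obtain ⟨H, h1, h2, h3, h4, h5, h6⟩ := H893.RelV.lemmaV N (v : N →* ℂˣ) (ω := ωᶜ)
      (m := Nat.card N) (fun n => by rw [← map_pow, pow_card_eq_one', map_one]) hNω
      (by rw [compl_compl]; exact hlin _ hv1) hIM
    rw [compl_compl] at h6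
    have hst : ∀ g : G, g • v = v ↔ g ∈ inertia N (lf (v : N →* ℂˣ)) := by
      intro g
      rw [← H673.smul_eq_iff]
      exact ⟨fun h => congrArg Subtype.val h, fun h => Subtype.ext h⟩
    refine ⟨H, h1, fun x hx => (hst x).2 (h2 hx), fun g hg => h3 g ((hst g).1 hg), h4, ?_, h6⟩
    have h7 : Nat.card H = Nat.card N * N.relIndex H := by
      rw [← Subgroup.relIndex_bot_left N, ← Subgroup.relIndex_bot_left H]
      exact (Subgroup.relIndex_mul_relIndex ⊥ N H bot_le h1).symm
    rw [h7]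
    exact hNω.mul h5
  -- the Hall `ωᶜ`-subgroup
  have hHall : AbHall ωᶜ (G ⧸ N) := H893.RelV.abHall N l0 (ω := ωᶜ)
      (m := Nat.card N) (fun n => by rw [← map_pow, pow_card_eq_one', map_one]) hNω
      (by rw [compl_compl]; exact hlin _ hl0) hIM
  obtain ⟨H, hNH, -, -, -, -, -, -, hDJω, -⟩ := H893.RelU.struct N hθ hty hHall
  rw [compl_compl] at hDJω
  have hJω : PiNum ωᶜ (inertia N θ).index := H893.RelU.index_inertia N hθ hty
  have hLN := ln_of hθ hty
  have hNJ : N ≤ inertia N θ := le_inertia (isIrr_isClassFunction hθ)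
  have hND : N ≤ (inertia N θ).normalCore := Subgroup.normal_le_normalCore.2 hNJ
  have hDJ : (inertia N θ).normalCore ≤ inertia N θ := Subgroup.normalCore_le _
  have hsol : Group.IsSolvable G := by
    have h3 : Group.IsNilpotent N := hNp.isNilpotent
    have h4 : Group.IsSolvable N := inferInstance
    exact (Group.isSolvable_iff_subgroup_quotient N).2 ⟨h4, hsolq⟩
  have hB : AbHall ω (G ⧸ N) := by
    by_cases hpD : p ∣ Nat.card (Db (inertia N θ).normalCore (Vp p N))
    · exact caseB_irr irredHyp hpω hVp hND hDJ hLN hNV hHD hsol hpD hJω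
    · obtain ⟨S, hSn, hNS, hSD, hSp, hSi, hSab⟩ := caseB_normal hpω hND hNp hHD hpD
      refine abHall_transfer hNJ hJω ?_
      have hSJ : S ≤ inertia N θ := hSD.trans hDJ
      let e := Subgroup.subgroupOfEquivOfLe hNJ
      have hθ' : IsIrrCharacter (N.subgroupOf (inertia N θ)) (θ ∘ e) :=
        isIrr_comp (e : N.subgroupOf (inertia N θ) →* N) e.surjective hθ
      have hSn' : (S.subgroupOf (inertia N θ)).Normal := inferInstance
      refine H158.Gla.normal_case (J := inertia N θ) (p := p) (N := N.subgroupOf (inertia N θ))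
        (S := S.subgroupOf (inertia N θ)) hIM
        (fun x hx => Subgroup.mem_subgroupOf.2 (hNS (Subgroup.mem_subgroupOf.1 hx)))
        hSp.comap_subtype ?_ ?_ hθ' ?_ hpω ?_
      · have h1 : (S.subgroupOf (inertia N θ)).index = S.relIndex (inertia N θ) := rfl
        rw [h1, ← Subgroup.relIndex_mul_relIndex S (inertia N θ).normalCore (inertia N θ) hSD hDJ]
        intro h2
        rcases hp.out.dvd_mul.1 h2 with h3 | h3
        · exact hSi h3
        · exact hpω (hDJω p hp.out h3)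
      · intro a ha b hb
        exact Subgroup.mem_subgroupOf.2 (hSab a (Subgroup.mem_subgroupOf.1 ha) b
          (Subgroup.mem_subgroupOf.1 hb))
      · rw [eq_top_iff]
        rintro g -
        rw [mem_inertia_iff]
        intro n
        have h1 := mem_inertia_iff.1 g.2 (e n)
        exact h1
      · intro χ hχ ho
        have h1 : Over (Subgroup.inclusion hNJ) χ θ := by
          have h2 := (over_comp_equiv (Subgroup.inclusion hNJ) e χ θ).1
          apply h2
          have e1 : (Subgroup.inclusion hNJ).comp e.toMonoidHom =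
              (N.subgroupOf (inertia N θ)).subtype := by
            ext x; rfl
          rw [e1]
          exact ho
        exact H893.RelU.deg_inertia N hθ hty hNJ hχ h1
  exact H353.DiscA.of_halls hB hHall

end dual

/-- **S4992** from the Itô-Michler theorem and the rows. -/
theorem main92 (hIM : IMT.{u}) (hrows : Rows.{u}) (hE : H671.H5.FactExt.{0})
    (hSch : ∀ (S : Type u) [Group S] [Finite S] [IsSimpleGroup S], Group.IsSolvable (Cfsg.Out S))
    {G : Type u} [Group G] [Finite G] (p : ℕ) [hp : Fact p.Prime] (N : Subgroup G) [N.Normal]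
    (hNp : IsPGroup p N) (hNna : ¬ IsMulCommutative N) (hNG : N ≤ commutator G)
    (a b : ℕ) (ha : a ∈ relCharDegrees N) (hb : b ∈ relCharDegrees N)
    (hdisc : ¬ (commonDivisorGraph.induce (relCharDegrees N)).Reachable ⟨a, ha⟩ ⟨b, hb⟩) :
    ∃ A B : Subgroup (G ⧸ N), IsMulCommutative ↥A ∧ IsMulCommutative ↥B ∧
      Nat.Coprime (Nat.card ↥A) (Nat.card ↥B) ∧ (A : Set (G ⧸ N)) * (B : Set (G ⧸ N)) = Set.univ := by
  obtain ⟨ω, h⟩ := exists_disc hNG ha hb (fun ⟨_, _, h⟩ => hdisc h)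
  have hsolq : Group.IsSolvable (G ⧸ N) := disc_solvable hIM hE (uHyp hrows hIM) hSch h
  by_cases hpω : p ∈ ω
  · exact main92_aux hIM hNp hNna (ω := ωᶜ) (fun h => h hpω) h.symm hsolq
  · exact main92_aux hIM hNp hNna hpω h hsolq

end Cfsg.Agent.H726.Rel.CB
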