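import Cfsg.Agent.H726.Rel.Iface
import Cfsg.Agent.H672.Main
import Cfsg.Agent.H673.InIM

/-!
# Types in a disconnected relative degree graph (helper726, for S4985 and S4992)

* `exists_det`: the determinant trick;
* `exists_ext_lin`: an invariant linear character of order prime to the degree of a character over it
  extends;
* `exists_prime`: for `M ≤ G'` and `1 ≠ φ ∈ Irr(M)` some prime divides all degrees over `φ`;
* `Disc ω N`, `Disc.one_type`.
-/

set_option autoImplicit false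
set_option linter.style.haveILetI false
set_option linter.unusedSectionVars false

open Cfsg

namespace Cfsg.Agent.H726.Rel

open Cfsg.Agent.H672
open Cfsg.Agent.Characters.Core Cfsg.Agent.Characters.Clifford

universe u v

variable {G : Type u} [Group G] [Finite G]

/-- **The determinant trick.** -/
theorem exists_det {χ : G → ℂ} (hχ : IsIrrCharacter G χ) :
    ∃ δ : G →* ℂˣ, ∀ (g : G) (c : ℂ), ‖c‖ = 1 → χ g = χ 1 * c → (δ g : ℂ) = c ^ charDegree χ := by
  obtain ⟨n, ρ, hρ, rfl⟩ := hχ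
  have h1 : ρ.character 1 = (n : ℂ) := by
    rw [Representation.char_one, Module.finrank_fin_fun]
  have hd : charDegree ρ.character = n := charDegree_of_eq h1
  have hn : 0 < n := by
    rw [← hd]
    exact charDegree_pos ⟨n, ρ, hρ, rfl⟩
  refine ⟨MonoidHom.toHomUnits ((LinearMap.det : (Module.End ℂ (Fin n → ℂ)) →* ℂ).comp ρ),
    fun g c hc hg => ?_⟩
  have h2 : ‖ρ.character g‖ = (Module.finrank ℂ (Fin n → ℂ) : ℝ) := by
    rw [hg, norm_mul, hc, mul_one, h1, Module.finrank_fin_fun]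
    simp
  obtain ⟨w, hw⟩ := (Characters.Values.norm_character_eq_iff ρ g).1 h2
  have h3 : ρ.character g = w * n := by
    rw [Representation.character, hw, map_smul]
    simp
  have h4 : w = c := by
    rw [h3, h1, mul_comm] at hg
    exact mul_left_cancel₀ (by exact_mod_cast hn.ne') hg
  show LinearMap.det (ρ g) = _
  rw [hw, h4, LinearMap.det_smul, LinearMap.det_id, mul_one, Module.finrank_fin_fun, hd]

theorem norm_hom {H : Type v} [Group H] [Finite H] (l : H →* ℂˣ) (x : H) : ‖(l x : ℂ)‖ = 1 := by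
  have h1 : (l x : ℂ) ^ Nat.card H = 1 := by
    rw [← Units.val_pow_eq_pow_val, ← map_pow, pow_card_eq_one', map_one, Units.val_one]
  exact Complex.norm_eq_one_of_pow_eq_one h1 Nat.card_pos.ne'

/-- An invariant linear character of order prime to the degree of a character over it extends. -/
theorem exists_ext_lin {H : Type v} [Group H] [Finite H] (f : H →* G) (l : H →* ℂˣ)
    {ψ : G → ℂ} (hψ : IsIrrCharacter G ψ) (hres : ∀ n, ψ (f n) = ψ 1 * l n) {m : ℕ}
    (hm : ∀ n, l n ^ m = 1) (hcop : (charDegree ψ).Coprime m) :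
    ∃ F : G →* ℂˣ, ∀ n, F (f n) = l n := by
  obtain ⟨δ, hδ⟩ := exists_det hψ
  have h1 : ∀ n, δ (f n) = l n ^ charDegree ψ := fun n => by
    apply Units.ext
    rw [hδ (f n) (l n) (norm_hom l n) (hres n), Units.val_pow_eq_pow_val]
  obtain ⟨e, he⟩ : ∃ e : ℕ, charDegree ψ * e ≡ 1 [MOD m] := by
    rcases Nat.lt_or_ge 1 m with h | h
    · obtain ⟨e, -, he⟩ := Nat.exists_mul_mod_eq_one_of_coprime hcop h
      exact ⟨e, by rw [Nat.ModEq, he, Nat.mod_eq_of_lt h]⟩
    · interval_cases m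
      · have : charDegree ψ = 1 := by simpa using hcop
        exact ⟨1, by rw [this]⟩
      · exact ⟨1, Nat.modEq_one⟩
  refine ⟨δ ^ e, fun n => ?_⟩
  rw [MonoidHom.pow_apply, h1, ← pow_mul]
  have h2 : orderOf (l n) ∣ m := orderOf_dvd_of_pow_eq_one (hm n)
  have h3 : l n ^ (charDegree ψ * e) = l n ^ 1 := pow_eq_pow_iff_modEq.2 (he.of_dvd h2)
  rw [h3, pow_one]

/-- The restriction of a character over an invariant character. -/
theorem restrict_of_inertia_top (M : Subgroup G) [hM : M.Normal] {χ : G → ℂ}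
    (hχ : IsIrrCharacter G χ) {θ : M → ℂ} (hθ : IsIrrCharacter M θ) (h : Over M.subtype χ θ)
    (hT : inertia M θ = ⊤) : ∃ c : ℂ, c * θ 1 = χ 1 ∧ ∀ n : M, χ n = c * θ n := by
  classical
  letI := Fintype.ofFinite G
  letI := Fintype.ofFinite M
  have hinv : ∀ g : G, θ ∘ (MulAut.conjNormal g : MulAut M) = θ := fun g => by
    have : g ∈ inertia M θ := by rw [hT]; trivial
    exact this
  have h1 := CharDeep.CliffordCorr.restrict_eq_smul_of_invariant M hχ hθ hinv
    ((over_subtype_iff M χ θ).1 h)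
  refine ⟨classInner (fun n : M => χ n) θ, ?_, fun n => ?_⟩
  · have := congrFun h1 1
    exact this.symm
  · exact congrFun h1 n

/-- For `M ≤ G'` and `1 ≠ φ ∈ Irr(M)` some prime divides all degrees over `φ`. -/
theorem exists_prime {M : Subgroup G} [hM : M.Normal] (hMG : M ≤ commutator G) {φ : M → ℂ}
    (hφ : IsIrrCharacter M φ) (h1 : φ ≠ 1) :
    ∃ q : ℕ, q.Prime ∧ ∀ χ : G → ℂ, IsIrrCharacter G χ → Over M.subtype χ φ →
      q ∣ charDegree χ := by
  by_cases hc : (inertia M φ).index * charDegree φ = 1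
  · have hT : inertia M φ = ⊤ := Subgroup.index_eq_one.1 (Nat.eq_one_of_mul_eq_one_right hc)
    obtain ⟨l, rfl⟩ := exists_hom_of_degree_one hφ (Nat.eq_one_of_mul_eq_one_left hc)
    have hl : l ≠ 1 := by
      rintro rfl
      exact h1 lf_one
    obtain ⟨x, hx⟩ : ∃ x, l x ≠ 1 := by
      by_contra hcon
      push Not at hcon
      exact hl (MonoidHom.ext hcon)
    obtain ⟨q, hq, hqx⟩ := Nat.exists_prime_and_dvd (n := orderOf (l x))
      (fun h => hx (orderOf_eq_one_iff.1 h))
    refine ⟨q, hq, fun χ hχ ho => hqx.trans (orderOf_dvd_of_pow_eq_one ?_)⟩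
    obtain ⟨c, hc1, hc2⟩ := restrict_of_inertia_top M hχ hφ ho hT
    obtain ⟨δ, hδ⟩ := exists_det hχ
    have hres : χ x = χ 1 * l x := by
      rw [hc2 x, ← hc1, lf_apply, lf_apply, map_one, Units.val_one, mul_one]
    have h2 := hδ x (l x) (norm_hom l x) hres
    have h3 : δ x = 1 := by
      have : (x : G) ∈ δ.ker := Abelianization.commutator_subset_ker δ (hMG x.2)
      exact this
    apply Units.ext
    rw [Units.val_pow_eq_pow_val, ← h2, h3]
  · obtain ⟨q, hq, hqd⟩ := Nat.exists_prime_and_dvd hc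
    exact ⟨q, hq, fun χ hχ ho => hqd.trans (index_mul_charDegree_dvd M hχ hφ ho)⟩

/-- The disconnected relative degree graph, split by the set `ω` of primes. -/
structure Disc (ω : Set ℕ) (N : Subgroup G) : Prop where
  le : N ≤ commutator G
  typ : ∀ d ∈ relCharDegrees N, PiNum ω d ∨ PiNum ωᶜ d
  exA : ∃ d ∈ relCharDegrees N, PiNum ω d
  exB : ∃ d ∈ relCharDegrees N, PiNum ωᶜ d

theorem Disc.symm {ω : Set ℕ} {N : Subgroup G} (h : Disc ω N) : Disc ωᶜ N :=
  ⟨h.le, fun d hd => by rw [compl_compl]; exact (h.typ d hd).symm, h.exB, by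
    rw [compl_compl]; exact h.exA⟩

/-- `ker χ` does not contain `N` if `χ` lies over a nontrivial character of `M ≤ N`. -/
theorem mem_rel_of_over_le {M N : Subgroup G} [M.Normal] (hMN : M ≤ N) {χ : G → ℂ}
    (hχ : IsIrrCharacter G χ) {φ : M → ℂ} (hφ : IsIrrCharacter M φ) (ho : Over M.subtype χ φ)
    (h1 : φ ≠ 1) : charDegree χ ∈ relCharDegrees N := by
  obtain ⟨χ', ⟨x, hx, hne⟩, hd⟩ := mem_relCharDegrees_of_over M hχ hφ ho h1
  -- the kernel statement for `χ` itself
  by_cases hk : ∃ x ∈ M, χ x ≠ χ 1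
  · obtain ⟨y, hy, hy1⟩ := hk
    exact ⟨⟨χ, hχ⟩, ⟨y, hMN hy, hy1⟩, rfl⟩
  · exact ⟨χ', ⟨x, hMN hx, hne⟩, hd⟩

/-- **(T)** All the characters over `1 ≠ φ ∈ Irr(M)`, `M ≤ N` normal in `G`, have the same type. -/
theorem Disc.one_type {ω : Set ℕ} {N : Subgroup G} (h : Disc ω N) {M : Subgroup G} [M.Normal]
    (hMN : M ≤ N) {φ : M → ℂ} (hφ : IsIrrCharacter M φ) (h1 : φ ≠ 1) :
    (∀ χ : G → ℂ, IsIrrCharacter G χ → Over M.subtype χ φ → PiNum ω (charDegree χ)) ∨
    (∀ χ : G → ℂ, IsIrrCharacter G χ → Over M.subtype χ φ → PiNum ωᶜ (charDegree χ)) := by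
  obtain ⟨q, hq, hqd⟩ := exists_prime (hMN.trans h.le) hφ h1
  by_cases hqω : q ∈ ω
  · refine Or.inl fun χ hχ ho => ?_
    rcases h.typ _ (mem_rel_of_over_le hMN hχ hφ ho h1) with h2 | h2
    · exact h2
    · exact absurd hqω (h2 q hq (hqd χ hχ ho))
  · refine Or.inr fun χ hχ ho => ?_
    rcases h.typ _ (mem_rel_of_over_le hMN hχ hφ ho h1) with h2 | h2
    · exact absurd (h2 q hq (hqd χ hχ ho)) hqω
    · exact h2

end Cfsg.Agent.H726.Rel
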