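import Cfsg.Agent.H726.Rel.Type
import Cfsg.Agent.H893.RelD
import Cfsg.Agent.H893.RelE
import Cfsg.Agent.H893.RelV
import Cfsg.Agent.H682.CT.Char
import Cfsg.Agent.H595.Central
import Cfsg.Agent.H673.Dist
import Cfsg.Agent.H673.DiscAb

/-!
# S4985: the induction (helper726)
-/

set_option autoImplicit false
set_option linter.style.haveILetI false
set_option linter.unusedSectionVars false

open Cfsg

namespace Cfsg.Agent.H726.Rel

open Cfsg.Agent.H672
open Cfsg.Agent.Characters.Core Cfsg.Agent.Characters.Clifford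

universe u v

/-- Lemma U: an abelian Hall `ω`-subgroup of `G/N` and one `θ` with all degrees over it `ω`-numbers
imply that `G/N` is solvable. -/
def UHyp : Prop := ∀ (G : Type u) [Group G] [Finite G] (N : Subgroup G) [N.Normal] (θ : N → ℂ)
  (ω : Set ℕ), IsIrrCharacter N θ →
    (∀ χ : G → ℂ, IsIrrCharacter G χ → Over N.subtype χ θ → PiNum ω (charDegree χ)) →
    AbHall ω (G ⧸ N) → Group.IsSolvable (G ⧸ N)

section rel

variable {G : Type u} [Group G] [Finite G]

theorem one_lt_of_rel {N : Subgroup G} (hNG : N ≤ commutator G) {d : ℕ}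
    (hd : d ∈ relCharDegrees N) : 1 < d := by
  obtain ⟨⟨χ, hχ⟩, ⟨x, hx, hne⟩, rfl⟩ := hd
  dsimp only at hne ⊢
  have h0 := charDegree_pos hχ
  by_contra hcon
  obtain ⟨l, rfl⟩ := exists_hom_of_degree_one hχ (by omega)
  apply hne
  have h1 : x ∈ l.ker := Abelianization.commutator_subset_ker l (hNG hx)
  rw [lf_apply, lf_apply, MonoidHom.mem_ker.1 h1, map_one]

theorem rel_nonempty {M : Subgroup G} (hM : M ≠ ⊥) : ∃ d, d ∈ relCharDegrees M := by
  obtain ⟨⟨x, hxM⟩, hx1⟩ := M.ne_bot_iff_exists_ne_one.1 hM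
  have hx1' : x ≠ 1 := fun h => hx1 (Subtype.ext h)
  by_contra hno
  push Not at hno
  refine hx1' (H597.Base.eq_one_of_forall fun χ hχ => ?_)
  by_contra hne
  exact hno _ ⟨⟨χ, hχ⟩, ⟨x, hxM, hne⟩, rfl⟩

theorem rel_mono {M N : Subgroup G} (h : M ≤ N) {d : ℕ} (hd : d ∈ relCharDegrees M) :
    d ∈ relCharDegrees N := by
  obtain ⟨χ, ⟨x, hx, hne⟩, rfl⟩ := hd
  exact ⟨χ, ⟨x, h hx, hne⟩, rfl⟩

theorem rel_map_subset {M N : Subgroup G} [M.Normal] {d : ℕ}
    (hd : d ∈ relCharDegrees (N.map (QuotientGroup.mk' M))) : d ∈ relCharDegrees N := by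
  obtain ⟨⟨χ, hχ⟩, ⟨_, ⟨x, hx, rfl⟩, hne⟩, rfl⟩ := hd
  refine ⟨⟨χ ∘ QuotientGroup.mk' M, isIrr_comp (QuotientGroup.mk' M)
    (QuotientGroup.mk'_surjective M) hχ⟩, ⟨x, hx, ?_⟩, charDegree_comp_one _ _⟩
  show χ (QuotientGroup.mk' M x) ≠ χ (QuotientGroup.mk' M 1)
  rw [map_one]
  exact hne

theorem mem_rel_map {M N : Subgroup G} [hMn : M.Normal] {χ : G → ℂ} (hχ : IsIrrCharacter G χ)
    (hM : ∀ m ∈ M, χ m = χ 1) (hN : ∃ x ∈ N, χ x ≠ χ 1) :
    charDegree χ ∈ relCharDegrees (N.map (QuotientGroup.mk' M)) := by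
  obtain ⟨χ', h⟩ := H595.Central.descend (QuotientGroup.mk' M) (QuotientGroup.mk'_surjective M)
    ⟨χ, hχ⟩ (fun x k hk => H682.CT.mul_of_ker hχ (hM k ((QuotientGroup.eq_one_iff k).1 hk)) x)
  obtain ⟨x, hx, hne⟩ := hN
  refine ⟨χ', ⟨_, ⟨x, hx, rfl⟩, ?_⟩, ?_⟩
  · rw [h]
    intro h1
    apply hne
    have h2 := h 1
    rw [map_one] at h2
    show χ x = χ 1
    exact h1.trans h2
  · have h2 : (χ' : G ⧸ M → ℂ) ∘ (QuotientGroup.mk' M) = χ := funext h
    rw [← h2, charDegree_comp_one]

/-- a member of the relative degree set of `N` is one for `M` or for `N/M` -/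
theorem rel_cases {M N : Subgroup G} [M.Normal] {d : ℕ} (hd : d ∈ relCharDegrees N) :
    d ∈ relCharDegrees M ∨ d ∈ relCharDegrees (N.map (QuotientGroup.mk' M)) := by
  obtain ⟨⟨χ, hχ⟩, hne, rfl⟩ := hd
  by_cases h : ∃ x ∈ M, χ x ≠ χ 1
  · exact Or.inl ⟨⟨χ, hχ⟩, h, rfl⟩
  · push Not at h
    exact Or.inr (mem_rel_map hχ h hne)

/-- A character over a linear character trivial on `M`. -/
theorem ker_of_over {M N : Subgroup G} [hMn : M.Normal] [N.Normal] (hMN : M ≤ N)
    {χ : G → ℂ} (hχ : IsIrrCharacter G χ) {l : N →* ℂˣ} (ho : Over N.subtype χ (lf l))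
    (hl : ∀ n : N, (n : G) ∈ M → l n = 1) : ∀ m ∈ M, χ m = χ 1 := by
  classical
  letI := Fintype.ofFinite M
  -- the trivial character of `M` is a constituent
  have e : M.subtype = N.subtype.comp (Subgroup.inclusion hMN) := by ext; rfl
  have h1 : Over M.subtype χ (lf (1 : M →* ℂˣ)) := by
    rw [e]
    refine (over_comp_iff _ _ (isIrr_isCharacter hχ) (isIrr_lf _)).2 ⟨lf l, isIrr_lf l, ho, ?_⟩
    rw [over_iff]
    have e2 : lf l ∘ (Subgroup.inclusion hMN) = lf (1 : M →* ℂˣ) := by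
      funext m
      show (l (Subgroup.inclusion hMN m) : ℂ) = _
      rw [hl _ m.2]
      rfl
    rw [e2, classInner_irr_self (isIrr_lf _)]
    exact one_ne_zero
  have hT : inertia M (lf (1 : M →* ℂˣ)) = ⊤ := by
    rw [eq_top_iff]
    intro g _
    rw [mem_inertia_lf]
    intro n
    rfl
  obtain ⟨c, hc1, hc2⟩ := restrict_of_inertia_top M hχ (isIrr_lf _) h1 hT
  intro m hm
  have h3 := hc2 ⟨m, hm⟩
  rw [lf_apply] at hc1 h3
  rw [MonoidHom.one_apply, Units.val_one] at hc1 h3
  rw [← hc1]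
  exact h3

theorem not_both {N : Subgroup G} (hNG : N ≤ commutator G) {ω : Set ℕ} {d : ℕ}
    (hd : d ∈ relCharDegrees N) (h1 : PiNum ω d) (h2 : PiNum ωᶜ d) : False := by
  have := one_lt_of_rel hNG hd
  rw [h1.eq_one h2] at this
  omega

/-- an abelian minimal normal subgroup is a `p`-group -/
theorem exists_prime_of_min {N : Subgroup G} [hN : N.Normal] (h1 : N ≠ ⊥)
    (hab : ∀ a b : N, a * b = b * a)
    (hmin : ∀ L : Subgroup G, L.Normal → L ≤ N → L = ⊥ ∨ L = N) :
    ∃ p : ℕ, p.Prime ∧ IsPGroup p N := by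
  have hc : Nat.card N ≠ 1 := fun h => h1 (Subgroup.card_eq_one.1 h)
  obtain ⟨p, hp, hpd⟩ := Nat.exists_prime_and_dvd hc
  have : Fact p.Prime := ⟨hp⟩
  obtain ⟨P⟩ : Nonempty (Sylow p N) := inferInstance
  have hPn : (P : Subgroup N).Normal := ⟨fun n hn g => by
    rw [hab g n, mul_inv_cancel_right]; exact hn⟩
  have hchar : (P : Subgroup N).Characteristic := Sylow.characteristic_of_normal P hPn
  have hT : ((P : Subgroup N).map N.subtype).Normal :=
    ConjAct.normal_of_characteristic_of_normal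
  rcases hmin _ hT (by rintro _ ⟨x, -, rfl⟩; exact x.2) with h | h
  · exfalso
    have h2 : (P : Subgroup N) = ⊥ := by
      rw [Subgroup.map_eq_bot_iff_of_injective _ N.subtype_injective] at h
      exact h
    have h3 := P.card_eq_multiplicity
    rw [h2, Subgroup.card_bot] at h3
    have h4 : (Nat.card N).factorization p ≠ 0 :=
      (hp.factorization_pos_of_dvd Nat.card_pos.ne' hpd).ne'
    have h5 : 1 < p ^ (Nat.card N).factorization p := Nat.one_lt_pow h4 hp.one_lt
    omega
  · refine ⟨p, hp, ?_⟩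
    have h2 : (P : Subgroup N) = ⊤ := by
      rw [eq_top_iff]
      intro x _
      have hx : (x : G) ∈ (P : Subgroup N).map N.subtype := by rw [h]; exact x.2
      obtain ⟨y, hy, hyx⟩ := hx
      have : y = x := Subtype.ext hyx
      rwa [← this]
    exact (P.isPGroup'.to_le (le_of_eq h2.symm)).of_equiv Subgroup.topEquiv

end rel

section caseC

variable {G : Type u} [Group G] [Finite G] {N : Subgroup G} [hN : N.Normal]

theorem caseC_aux (hIM : IMT.{u}) (hU : UHyp.{u}) {p : ℕ} [hp : Fact p.Prime]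
    (hNp : IsPGroup p N) {ω : Set ℕ} (hpω : p ∉ ω) (h : Disc ω N) : Group.IsSolvable (G ⧸ N) := by
  -- a linear character of type `ω`
  obtain ⟨_, ⟨⟨χ, hχ⟩, hk, rfl⟩, hd⟩ := h.exA
  dsimp only at hk hd
  obtain ⟨θ, hθ, ho⟩ := exists_under (f := N.subtype) hχ
  have hθ1 := ne_one_of_over N hχ hk hθ ho
  have hdeg : charDegree θ = 1 := by
    rcases H670.PSing.charDegree_pgroup hNp hθ with h1 | h1
    · exact h1
    · exact absurd (h1.trans (charDegree_dvd_of_over N hχ hθ ho).1) (hd.not_dvd hp.out hpω)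
  obtain ⟨l, rfl⟩ := exists_hom_of_degree_one hθ hdeg
  have hall : ∀ χ : G → ℂ, IsIrrCharacter G χ → Over N.subtype χ (lf l) →
      PiNum ω (charDegree χ) := by
    rcases h.one_type le_rfl hθ hθ1 with h1 | h1
    · exact h1
    · exact absurd (h1 χ hχ ho) fun h2 =>
        not_both h.le (mem_relCharDegrees_of_over N hχ hθ ho hθ1) hd h2
  obtain ⟨k, hk'⟩ := IsPGroup.iff_card.1 hNp
  have hHall : AbHall ωᶜ (G ⧸ N) := H893.RelV.abHall N l (ω := ωᶜ) (m := Nat.card N)
    (fun n => by rw [← map_pow, pow_card_eq_one', map_one]) (by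
      rw [hk']
      refine PiNum.pow ?_ k
      intro q hq hqp
      rw [(Nat.prime_dvd_prime_iff_eq hq hp.out).1 hqp]
      exact hpω) (by rw [compl_compl]; exact hall) hIM
  -- a character of type `ωᶜ`
  obtain ⟨_, ⟨⟨χ', hχ'⟩, hk2, rfl⟩, hd'⟩ := h.exB
  dsimp only at hk2 hd'
  obtain ⟨θ', hθ', ho'⟩ := exists_under (f := N.subtype) hχ'
  have hθ1' := ne_one_of_over N hχ' hk2 hθ' ho'
  refine hU G N θ' ωᶜ hθ' ?_ hHall
  rcases h.one_type le_rfl hθ' hθ1' with h1 | h1
  · exact absurd (h1 χ' hχ' ho') fun h2 =>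
        not_both h.le (mem_relCharDegrees_of_over N hχ' hθ' ho' hθ1') h2 hd'
  · exact h1

/-- The case of a `p`-group. -/
theorem caseC (hIM : IMT.{u}) (hU : UHyp.{u}) {p : ℕ} [hp : Fact p.Prime]
    (hNp : IsPGroup p N) {ω : Set ℕ} (h : Disc ω N) : Group.IsSolvable (G ⧸ N) := by
  by_cases hpω : p ∈ ω
  · exact caseC_aux hIM hU hNp (ω := ωᶜ) (fun h => h hpω) h.symm
  · exact caseC_aux hIM hU hNp hpω h

end caseC

section step

variable {G : Type u} [Group G] [Finite G] {M N : Subgroup G} [hM : M.Normal] [hN : N.Normal]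

theorem ne_of_over {H : Subgroup G} {χ : G → ℂ} (hχ : IsIrrCharacter G χ) {θ : H → ℂ}
    (hθ : IsIrrCharacter H θ) (ho : Over H.subtype χ θ) {k : H} (hk : θ k ≠ θ 1) :
    χ k ≠ χ 1 := by
  classical
  letI := Fintype.ofFinite H
  intro h
  apply hk
  exact H597.Base.ker_of_constituent (isCharacter_comp H.subtype (isIrr_isCharacter hχ)) hθ
    ((over_iff _ _ _).1 ho) h

/-- a nontrivial linear character of `N` trivial on `M` -/
theorem exists_lin (hMN : M < N) (hab : ∀ a ∈ N, ∀ b ∈ N, a * b * a⁻¹ * b⁻¹ ∈ M) {m : ℕ}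
    (hm : ∀ x ∈ N, x ^ m ∈ M) :
    ∃ l : N →* ℂˣ, l ≠ 1 ∧ (∀ n : N, (n : G) ∈ M → l n = 1) ∧ ∀ n, l n ^ m = 1 := by
  obtain ⟨x, hxN, hxM⟩ := SetLike.exists_of_lt hMN
  let f : N →* N ⧸ M.subgroupOf N := QuotientGroup.mk' (M.subgroupOf N)
  have hf : ∀ n : N, f n = 1 ↔ (n : G) ∈ M := fun n =>
    (QuotientGroup.eq_one_iff n).trans Subgroup.mem_subgroupOf
  have hcomm : ∀ a b : N ⧸ M.subgroupOf N, a * b = b * a := by
    intro a b
    obtain ⟨a, rfl⟩ := QuotientGroup.mk'_surjective _ a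
    obtain ⟨b, rfl⟩ := QuotientGroup.mk'_surjective _ b
    have h1 : f (a * b * a⁻¹ * b⁻¹) = 1 := (hf _).2 (hab a a.2 b b.2)
    rw [map_mul, map_mul, map_mul, map_inv, map_inv, mul_inv_eq_one, mul_inv_eq_iff_eq_mul] at h1
    exact h1
  obtain ⟨g, hg⟩ := H673.exists_dual_ne hcomm (a := f ⟨x, hxN⟩) (fun h => hxM ((hf _).1 h))
  refine ⟨g.comp f, fun h => hg ?_, fun n hn => ?_, fun n => ?_⟩
  · exact DFunLike.congr_fun h (⟨x, hxN⟩ : N)
  · rw [MonoidHom.comp_apply, (hf n).2 hn, map_one]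
  · rw [← map_pow, MonoidHom.comp_apply, (hf _).2 (hm n n.2), map_one]

theorem step (hIM : IMT.{u}) (hE : H671.H5.FactExt.{0}) (hU : UHyp.{u}) {ω : Set ℕ}
    (h : Disc ω N) (hM1 : M ≠ ⊥) (hMN : M < N)
    (hA : ∀ d ∈ relCharDegrees M, PiNum ω d)
    (hB : ∀ d ∈ relCharDegrees (N.map (QuotientGroup.mk' M)), PiNum ωᶜ d)
    (hmin : ∀ L : Subgroup G, L.Normal → L ≤ M → L = ⊥ ∨ L = M)
    (hchief : ∀ L : Subgroup G, L.Normal → M ≤ L → L ≤ N → L = M ∨ L = N) :
    Group.IsSolvable (G ⧸ N) := by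
  classical
  by_cases hna : ∃ a ∈ N, ∃ b ∈ N, a * b * a⁻¹ * b⁻¹ ∉ M
  · exact (H893.RelD.quot_nonab hIM hM1 hMN.le hA hB hchief hna).elim
  push Not at hna
  -- `N / M` is a `p`-group
  obtain ⟨p, hp, hpN⟩ : ∃ p : ℕ, p.Prime ∧ IsPGroup p (N.map (QuotientGroup.mk' M)) := by
    refine exists_prime_of_min ?_ ?_ ?_
    · intro h1
      obtain ⟨x, hxN, hxM⟩ := SetLike.exists_of_lt hMN
      have h2 : QuotientGroup.mk' M x ∈ N.map (QuotientGroup.mk' M) := ⟨x, hxN, rfl⟩
      rw [h1, Subgroup.mem_bot] at h2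
      exact hxM ((QuotientGroup.eq_one_iff x).1 h2)
    · rintro ⟨_, a, ha, rfl⟩ ⟨_, b, hb, rfl⟩
      apply Subtype.ext
      show QuotientGroup.mk' M a * QuotientGroup.mk' M b = QuotientGroup.mk' M b * QuotientGroup.mk' M a
      have h1 : QuotientGroup.mk' M (a * b * a⁻¹ * b⁻¹) = 1 :=
        (QuotientGroup.eq_one_iff _).2 (hna a ha b hb)
      rw [map_mul, map_mul, map_mul, map_inv, map_inv, mul_inv_eq_one, mul_inv_eq_iff_eq_mul] at h1
      exact h1
    · intro L hL hLN
      have h1 : M ≤ L.comap (QuotientGroup.mk' M) := by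
        intro m hm
        rw [Subgroup.mem_comap]
        have : QuotientGroup.mk' M m = 1 := (QuotientGroup.eq_one_iff m).2 hm
        rw [this]
        exact one_mem L
      have h2 : L.comap (QuotientGroup.mk' M) ≤ N := by
        intro x hx
        obtain ⟨y, hy, hyx⟩ := hLN hx
        have h3 : y⁻¹ * x ∈ M := QuotientGroup.eq.1 hyx
        have h4 : x = y * (y⁻¹ * x) := by group
        rw [h4]
        exact mul_mem hy (hMN.le h3)
      have h5 : (L.comap (QuotientGroup.mk' M)).map (QuotientGroup.mk' M) = L :=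
        Subgroup.map_comap_eq_self_of_surjective (QuotientGroup.mk'_surjective M) L
      rcases hchief _ (hL.comap _) h1 h2 with h3 | h3
      · left
        rw [← h5, h3, Subgroup.map_eq_bot_iff, QuotientGroup.ker_mk']
      · right
        rw [← h5, h3]
  have : Fact p.Prime := ⟨hp⟩
  obtain ⟨k, hk⟩ := IsPGroup.iff_card.1 hpN
  have hpow : ∀ x ∈ N, x ^ p ^ k ∈ M := by
    intro x hx
    rw [← QuotientGroup.eq_one_iff]
    have h1 : (⟨QuotientGroup.mk' M x, ⟨x, hx, rfl⟩⟩ : N.map (QuotientGroup.mk' M)) ^ p ^ k = 1 := by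
      rw [← hk]
      exact pow_card_eq_one'
    have h2 := congrArg Subtype.val h1
    rw [SubgroupClass.coe_pow] at h2
    exact h2
  obtain ⟨l, hl1, hlM, hlp⟩ := exists_lin hMN hna hpow
  have hltyp : ∀ l : N →* ℂˣ, l ≠ 1 → (∀ n : N, (n : G) ∈ M → l n = 1) →
      ∀ χ : G → ℂ, IsIrrCharacter G χ → Over N.subtype χ (lf l) → PiNum ωᶜ (charDegree χ) := by
    intro l hl1 hlM χ hχ ho
    apply hB
    refine mem_rel_map hχ (ker_of_over hMN.le hχ ho hlM) ?_
    obtain ⟨x, hx⟩ : ∃ x, l x ≠ 1 := by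
      by_contra hcon
      push Not at hcon
      exact hl1 (MonoidHom.ext hcon)
    refine ⟨x, x.2, ne_of_over hχ (isIrr_lf l) ho ?_⟩
    rw [lf_apply, lf_apply, map_one]
    intro h2
    exact hx (Units.ext h2)
  by_cases hpω : p ∈ ω
  · -- lemmas V and U
    have hHall : AbHall ω (G ⧸ N) := H893.RelV.abHall N l hlp
      (PiNum.pow (fun q hq hqp => by rw [(Nat.prime_dvd_prime_iff_eq hq hp).1 hqp]; exact hpω) k)
      (hltyp l hl1 hlM) hIM
    obtain ⟨_, ⟨⟨χ0, hχ0⟩, hne, rfl⟩⟩ := rel_nonempty hM1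
    dsimp only at hne
    obtain ⟨φ, hφ, ho⟩ := exists_under (f := M.subtype) hχ0
    have hφ1 := ne_one_of_over M hχ0 hne hφ ho
    have e : M.subtype = N.subtype.comp (Subgroup.inclusion hMN.le) := by ext; rfl
    rw [e] at ho
    obtain ⟨ξ, hξ, -, ho2⟩ := (over_comp_iff _ _ (isIrr_isCharacter hχ0) hφ).1 ho
    refine hU G N ξ ω hξ (fun χ hχ hoχ => ?_) hHall
    apply hA
    refine mem_relCharDegrees_of_over M hχ hφ ?_ hφ1
    rw [e]
    exact (over_comp_iff _ _ (isIrr_isCharacter hχ) hφ).2 ⟨ξ, hξ, hoχ, ho2⟩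
  · by_cases hMab : IsMulCommutative M
    · -- `N` is abelian
      have hMc : ∀ a ∈ M, ∀ b ∈ M, a * b = b * a := fun a ha b hb =>
        congrArg Subtype.val (hMab.is_comm.comm ⟨a, ha⟩ ⟨b, hb⟩)
      have hidx : (M.subgroupOf N).index = p ^ k := by
        rw [← hk]
        have h1 : Nat.card (N.map (QuotientGroup.mk' M)) = Nat.card (N ⧸ M.subgroupOf N) := by
          let f : N →* G ⧸ M := (QuotientGroup.mk' M).comp N.subtype
          have hr : f.range = N.map (QuotientGroup.mk' M) := by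
            rw [MonoidHom.range_comp, Subgroup.range_subtype]
          have hkf : f.ker = M.subgroupOf N := by
            ext n
            exact (QuotientGroup.eq_one_iff (n : G)).trans Subgroup.mem_subgroupOf.symm
          rw [← hr, ← hkf]
          exact (Nat.card_congr (QuotientGroup.quotientKerEquivRange f).toEquiv).symm
        rw [h1]
        rfl
      have hNlin : ∀ ξ : IrrCharacter N, charDegree (ξ : N → ℂ) = 1 := by
        rintro ⟨ξ, hξ⟩
        show charDegree ξ = 1
        by_contra hξ1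
        have h1 : charDegree ξ ∣ p ^ k := by
          rw [← hidx]
          exact H596.charDegree_dvd_index hξ (M.subgroupOf N) (fun a ha b hb =>
            Subtype.ext (hMc a ha b hb))
        have h2 : p ∣ charDegree ξ := by
          obtain ⟨j, -, hj⟩ := (Nat.dvd_prime_pow hp).1 h1
          rcases Nat.eq_zero_or_pos j with h0 | h0
          · rw [h0, pow_zero] at hj
            exact absurd hj hξ1
          · rw [hj]
            exact dvd_pow_self p h0.ne'
        obtain ⟨χ, hχ, ho⟩ := exists_over N ξ hξ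
        have h3 : charDegree χ ∈ relCharDegrees M := by
          refine rel_mono ?_ (H673.mem_rel_commutator_of_nonlinear hχ hξ ho hξ1)
          rw [Subgroup.commutator_le]
          intro a ha b hb
          rw [commutatorElement_def]
          exact hna a ha b hb
        exact hpω (hA _ h3 p hp (h2.trans (charDegree_dvd_of_over N hχ hξ ho).1))
      have hNc : ∀ a b : N, a * b = b * a := H596.comm_of_charDegree_eq_one hNlin
      obtain ⟨r, hr, hrM⟩ := exists_prime_of_min hM1
        (fun a b => Subtype.ext (hMc a a.2 b b.2)) hmin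
      have : Fact r.Prime := ⟨hr⟩
      have hcardN : Nat.card N = Nat.card M * p ^ k := by
        rw [← hidx]
        have h1 := (M.subgroupOf N).card_mul_index
        rw [← h1]
        congr 1
        exact (Nat.card_congr (Subgroup.subgroupOfEquivOfLe hMN.le).toEquiv)
      obtain ⟨j, hj⟩ := IsPGroup.iff_card.1 hrM
      by_cases hrp : r = p
      · subst hrp
        refine caseC hIM hU (p := r) (IsPGroup.iff_card.2 ⟨j + k, ?_⟩) h
        rw [hcardN, hj, pow_add]
      · exfalso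
        -- `ϕ`
        obtain ⟨m0, hm0⟩ := M.ne_bot_iff_exists_ne_one.1 hM1
        obtain ⟨ϕ1, hϕ1⟩ := H673.exists_dual_ne hNc (a := (⟨m0, hMN.le m0.2⟩ : N))
          (fun h => hm0 (Subtype.ext (congrArg (fun z : N => (z : G)) h)))
        have hcop : (p ^ k).Coprime (Nat.card M) := by
          rw [hj]
          exact Nat.Coprime.pow _ _ ((Nat.coprime_primes hp hr).2 (Ne.symm hrp))
        have hl2 : l ^ Nat.card M ≠ 1 := by
          intro h1
          apply hl1
          ext x
          have h2 : l x ^ Nat.card M = 1 := DFunLike.congr_fun h1 x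
          have h3 := pow_gcd_eq_one.2 ⟨hlp x, h2⟩
          rw [hcop.gcd_eq_one, pow_one] at h3
          rw [h3]
          rfl
        obtain ⟨ϕ, hϕM, hϕi⟩ : ∃ ϕ : N →* ℂˣ, ϕ ⟨m0, hMN.le m0.2⟩ ≠ 1 ∧ ϕ ^ Nat.card M ≠ 1 := by
          by_cases h1 : ϕ1 ^ Nat.card M = 1
          · refine ⟨ϕ1 * l, ?_, ?_⟩
            · rw [MonoidHom.mul_apply, hlM _ m0.2, mul_one]
              exact hϕ1
            · intro h2
              apply hl2
              ext x
              have h3 : (ϕ1 x * l x) ^ Nat.card M = 1 := DFunLike.congr_fun h2 x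
              have h4 : ϕ1 x ^ Nat.card M = 1 := DFunLike.congr_fun h1 x
              rw [mul_pow, h4, one_mul] at h3
              show ((l x ^ Nat.card M : ℂˣ) : ℂ) = _
              rw [h3]
              rfl
          · exact ⟨ϕ1, hϕ1, h1⟩
        have hne : ∃ x, ϕ x ^ Nat.card M ≠ 1 := by
          by_contra hcon
          push Not at hcon
          exact hϕi (MonoidHom.ext hcon)
        obtain ⟨χ, hχ, ho⟩ := exists_over N _ (isIrr_lf ϕ)
        obtain ⟨ψ, hψ, hoψ⟩ := exists_over N _ (isIrr_lf (1 * ϕ ^ Nat.card M : N →* ℂˣ))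
        have h1 := not_coprime_of_over (p := r) (a := 0) (n' := p ^ k) (l := 1) (ϕ := ϕ)
          (i := Nat.card M) h.le (fun x => by rw [MonoidHom.one_apply, one_pow])
          (fun h1 => hrp ((Nat.prime_dvd_prime_iff_eq hr hp).1 (hr.dvd_of_dvd_pow h1)))
          (fun x => by rw [← hcardN, ← map_pow, pow_card_eq_one', map_one]) hne hχ ho hψ hoψ
        apply h1
        have h2 : PiNum ω (charDegree χ) := by
          apply hA
          refine ⟨⟨χ, hχ⟩, ⟨m0, m0.2, ?_⟩, rfl⟩
          refine ne_of_over (k := (⟨m0, hMN.le m0.2⟩ : N)) hχ (isIrr_lf ϕ) ho ?_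
          rw [lf_apply, lf_apply, map_one]
          intro h2
          exact hϕM (Units.ext h2)
        have h3 : PiNum ωᶜ (charDegree ψ) := by
          refine hltyp _ ?_ ?_ ψ hψ hoψ
          · intro h4
            apply hϕi
            ext x
            have h5 : (1 : ℂˣ) * ϕ x ^ Nat.card M = 1 := DFunLike.congr_fun h4 x
            rw [one_mul] at h5
            show ((ϕ x ^ Nat.card M : ℂˣ) : ℂ) = _
            rw [h5]
            rfl
          · intro n hn
            show (1 : ℂˣ) * ϕ n ^ Nat.card M = 1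
            rw [one_mul, ← map_pow]
            have h4 : (⟨n, hn⟩ : M) ^ Nat.card M = 1 := pow_card_eq_one'
            have h5 : n ^ Nat.card M = 1 := by
              apply Subtype.ext
              have := congrArg Subtype.val h4
              rw [SubgroupClass.coe_pow] at this ⊢
              exact this
            rw [h5, map_one]
        exact h2.coprime h3
    · exact (H893.RelD.min_nonab_false hE h.le hMN hA hB hmin hMab).elim

end step

section main

/-- the relative types for `M` and `N/M` -/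
theorem type_cases {G : Type u} [Group G] [Finite G] {M N : Subgroup G} [M.Normal] [N.Normal]
    (hMN : M ≤ N) {ω : Set ℕ} (h : Disc ω N) (h1 : ¬ Disc ω M)
    (h2 : ¬ Disc ω (N.map (QuotientGroup.mk' M))) :
    ((∀ d ∈ relCharDegrees M, PiNum ω d) ∧
      (∀ d ∈ relCharDegrees (N.map (QuotientGroup.mk' M)), PiNum ωᶜ d)) ∨
    ((∀ d ∈ relCharDegrees M, PiNum ωᶜ d) ∧
      (∀ d ∈ relCharDegrees (N.map (QuotientGroup.mk' M)), PiNum ω d)) := by
  have hN' : N.map (QuotientGroup.mk' M) ≤ commutator (G ⧸ M) := by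
    refine (Subgroup.map_mono h.le).trans ?_
    rw [commutator_def, Subgroup.map_commutator]
    exact Subgroup.commutator_mono le_top le_top
  have e1 : (∀ d ∈ relCharDegrees M, PiNum ω d) ∨ (∀ d ∈ relCharDegrees M, PiNum ωᶜ d) := by
    by_contra hcon
    push Not at hcon
    obtain ⟨⟨d, hd, hd1⟩, ⟨e, he, he1⟩⟩ := hcon
    refine h1 ⟨hMN.trans h.le, fun x hx => h.typ x (rel_mono hMN hx), ⟨e, he, ?_⟩, ⟨d, hd, ?_⟩⟩
    · exact (h.typ e (rel_mono hMN he)).resolve_right he1
    · exact (h.typ d (rel_mono hMN hd)).resolve_left hd1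
  have e2 : (∀ d ∈ relCharDegrees (N.map (QuotientGroup.mk' M)), PiNum ω d) ∨
      (∀ d ∈ relCharDegrees (N.map (QuotientGroup.mk' M)), PiNum ωᶜ d) := by
    by_contra hcon
    push Not at hcon
    obtain ⟨⟨d, hd, hd1⟩, ⟨e, he, he1⟩⟩ := hcon
    refine h2 ⟨hN', fun x hx => h.typ x (rel_map_subset hx), ⟨e, he, ?_⟩, ⟨d, hd, ?_⟩⟩
    · exact (h.typ e (rel_map_subset he)).resolve_right he1
    · exact (h.typ d (rel_map_subset hd)).resolve_left hd1
  obtain ⟨a, ha, haω⟩ := h.exA
  obtain ⟨b, hb, hbω⟩ := h.exB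
  rcases e1 with e1 | e1 <;> rcases e2 with e2 | e2
  · rcases rel_cases (M := M) hb with h3 | h3
    · exact (not_both h.le hb (e1 b h3) hbω).elim
    · exact (not_both h.le hb (e2 b h3) hbω).elim
  · exact Or.inl ⟨e1, e2⟩
  · exact Or.inr ⟨e1, e2⟩
  · rcases rel_cases (M := M) ha with h3 | h3
    · exact (not_both h.le ha haω (e1 a h3)).elim
    · exact (not_both h.le ha haω (e2 a h3)).elim

theorem solvable_of_le {G : Type u} [Group G] {M N : Subgroup G} [M.Normal] [N.Normal]
    (hMN : M ≤ N) (h : Group.IsSolvable (G ⧸ M)) : Group.IsSolvable (G ⧸ N) := by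
  let f : G ⧸ M →* G ⧸ N := QuotientGroup.map M N (MonoidHom.id G) hMN
  have hf : Function.Surjective f := by
    intro y
    obtain ⟨x, rfl⟩ := QuotientGroup.mk_surjective y
    exact ⟨(x : G ⧸ M), rfl⟩
  exact Group.isSolvable_of_surjective hf

theorem solvable_of_quot {G : Type u} [Group G] {M N : Subgroup G} [M.Normal] [N.Normal]
    (hMN : M ≤ N) [(N.map (QuotientGroup.mk' M)).Normal]
    (h : Group.IsSolvable ((G ⧸ M) ⧸ N.map (QuotientGroup.mk' M))) : Group.IsSolvable (G ⧸ N) :=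
  Group.isSolvable_of_surjective (f := (QuotientGroup.quotientQuotientEquivQuotient M N hMN).toMonoidHom)
    (QuotientGroup.quotientQuotientEquivQuotient M N hMN).surjective

theorem disc_solvable_aux (hIM : IMT.{u}) (hE : H671.H5.FactExt.{0}) (hU : UHyp.{u})
    (hSch : ∀ (S : Type u) [Group S] [Finite S] [IsSimpleGroup S], Group.IsSolvable (Cfsg.Out S))
    (n : ℕ) : ∀ (G : Type u) [Group G] [Finite G] (N : Subgroup G) [N.Normal] (ω : Set ℕ),
      Nat.card G + Nat.card N = n → Disc ω N → Group.IsSolvable (G ⧸ N) := by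
  induction n using Nat.strong_induction_on with
  | _ n ih =>
    intro G _ _ N _ ω hn h
    by_cases hmin : ∀ L : Subgroup G, L.Normal → L ≤ N → L = ⊥ ∨ L = N
    · by_cases hab : IsMulCommutative N
      · have hN1 : N ≠ ⊥ := by
          rintro rfl
          obtain ⟨_, ⟨χ, ⟨x, hx, hne⟩, rfl⟩, -⟩ := h.exA
          rw [Subgroup.mem_bot] at hx
          exact hne (by rw [hx])
        obtain ⟨p, hp, hpN⟩ := exists_prime_of_min hN1
          (fun a b => hab.is_comm.comm a b) hmin
        have : Fact p.Prime := ⟨hp⟩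
        exact caseC hIM hU hpN h
      · exact H893.RelE.min_nonab hSch h hmin hab
    · push Not at hmin
      obtain ⟨L0, hL0n, hL0N, hL01, hL02⟩ := hmin
      -- a minimal normal subgroup `M < N`
      obtain ⟨M, hMn, hML, hM1, hMmin⟩ := H671.Frame.exists_minNormal hL0n hL01
      have hMN : M < N := lt_of_le_of_lt hML (lt_of_le_of_ne hL0N hL02)
      -- the two reductions
      have hred : ∀ L : Subgroup G, ∀ hL : L.Normal, L ≠ ⊥ → L < N →
          ¬ Group.IsSolvable (G ⧸ N) → ¬ Disc ω L ∧ ¬ Disc ω (N.map (QuotientGroup.mk' L)) := by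
        intro L hL hL1 hLN hns
        constructor
        · intro hd
          apply hns
          refine solvable_of_le hLN.le (ih _ ?_ G L ω rfl hd)
          rw [← hn]
          have : Nat.card L < Nat.card N := lt_of_le_of_ne
            (Nat.le_of_dvd Nat.card_pos (Subgroup.card_dvd_of_le hLN.le))
            (fun h => hLN.ne (Subgroup.eq_of_le_of_card_ge hLN.le h.ge))
          omega
        · intro hd
          apply hns
          have hNn : (N.map (QuotientGroup.mk' L)).Normal :=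
            Subgroup.Normal.map inferInstance _ (QuotientGroup.mk'_surjective L)
          refine solvable_of_quot hLN.le (ih _ ?_ (G ⧸ L) (N.map (QuotientGroup.mk' L)) ω rfl hd)
          rw [← hn]
          have h1 : Nat.card (G ⧸ L) < Nat.card G := by
            rw [Subgroup.card_eq_card_quotient_mul_card_subgroup L]
            have h2 : 1 < Nat.card L := by
              rw [Subgroup.one_lt_card_iff_ne_bot]
              exact hL1
            have h3 : 0 < Nat.card (G ⧸ L) := Nat.card_pos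
            nlinarith
          have h2 : Nat.card (N.map (QuotientGroup.mk' L)) ≤ Nat.card N :=
            Nat.card_le_card_of_surjective (fun x : N => (⟨QuotientGroup.mk' L x, ⟨x, x.2, rfl⟩⟩ :
              N.map (QuotientGroup.mk' L))) (by
                rintro ⟨_, x, hx, rfl⟩
                exact ⟨⟨x, hx⟩, rfl⟩)
          omega
      by_contra hns
      have key : ∀ ω : Set ℕ, Disc ω N →
          (∀ L : Subgroup G, ∀ hL : L.Normal, L ≠ ⊥ → L < N →
            ¬ Disc ω L ∧ ¬ Disc ω (N.map (QuotientGroup.mk' L))) →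
          (∀ d ∈ relCharDegrees M, PiNum ω d) →
          (∀ d ∈ relCharDegrees (N.map (QuotientGroup.mk' M)), PiNum ωᶜ d) → False := by
        intro ω h hred hA hB
        apply hns
        refine step hIM hE hU h hM1 hMN hA hB hMmin ?_
        intro L hLn hML hLN
        by_contra hcon
        push Not at hcon
        have hMlt : M < L := lt_of_le_of_ne hML (Ne.symm hcon.1)
        have hLlt : L < N := lt_of_le_of_ne hLN hcon.2
        have hL1 : L ≠ ⊥ := by
          rintro rfl
          exact hM1 (le_bot_iff.1 hML)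
        obtain ⟨a, ha⟩ := rel_nonempty hM1
        have hLM : L.map (QuotientGroup.mk' M) ≠ ⊥ := by
          intro h1
          obtain ⟨x, hxL, hxM⟩ := SetLike.exists_of_lt hMlt
          have h2 : QuotientGroup.mk' M x ∈ L.map (QuotientGroup.mk' M) := ⟨x, hxL, rfl⟩
          rw [h1, Subgroup.mem_bot] at h2
          exact hxM ((QuotientGroup.eq_one_iff x).1 h2)
        obtain ⟨b, hb⟩ := rel_nonempty hLM
        have hb1 : PiNum ωᶜ b := hB b (rel_mono (Subgroup.map_mono hLN) hb)
        have hbL : b ∈ relCharDegrees L := rel_map_subset hb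
        obtain ⟨h3, h4⟩ := hred L hLn hL1 hLlt
        rcases type_cases hLN h h3 h4 with ⟨h5, -⟩ | ⟨h5, -⟩
        · exact not_both h.le (rel_mono hLN hbL) (h5 b hbL) hb1
        · have haL : a ∈ relCharDegrees L := rel_mono hML ha
          exact not_both h.le (rel_mono hLN haL) (hA a ha) (h5 a haL)
      have hred' : ∀ L : Subgroup G, ∀ hL : L.Normal, L ≠ ⊥ → L < N →
            ¬ Disc ω L ∧ ¬ Disc ω (N.map (QuotientGroup.mk' L)) := fun L hL h1 h2 =>
        hred L hL h1 h2 hns
      obtain ⟨h3, h4⟩ := hred' M hMn hM1 hMN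
      rcases type_cases hMN.le h h3 h4 with ⟨h5, h6⟩ | ⟨h5, h6⟩
      · exact key ω h hred' h5 h6
      · refine key ωᶜ h.symm (fun L hL h1 h2 => ?_) h5 (by rw [compl_compl]; exact h6)
        obtain ⟨h7, h8⟩ := hred' L hL h1 h2
        refine ⟨fun hd => h7 ?_, fun hd => h8 ?_⟩
        · have := hd.symm
          rwa [compl_compl] at this
        · have := hd.symm
          rwa [compl_compl] at this

/-- **The solvability theorem** (S4985) in terms of types. -/
theorem disc_solvable (hIM : IMT.{u}) (hE : H671.H5.FactExt.{0}) (hU : UHyp.{u})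
    (hSch : ∀ (S : Type u) [Group S] [Finite S] [IsSimpleGroup S], Group.IsSolvable (Cfsg.Out S))
    {G : Type u} [Group G] [Finite G] {N : Subgroup G} [N.Normal] {ω : Set ℕ} (h : Disc ω N) :
    Group.IsSolvable (G ⧸ N) :=
  disc_solvable_aux hIM hE hU hSch _ G N ω rfl h

/-- A disconnected relative degree graph has two types. -/
theorem exists_disc {G : Type u} [Group G] [Finite G] {N : Subgroup G} (hNG : N ≤ commutator G)
    {a b : ℕ} (ha : a ∈ relCharDegrees N) (hb : b ∈ relCharDegrees N) (hab : ¬ Conn N a b) :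
    ∃ ω : Set ℕ, Disc ω N := by
  let ω : Set ℕ := {q | q.Prime ∧ ∃ d, Conn N a d ∧ q ∣ d}
  have hA : ∀ d, Conn N a d → PiNum ω d := fun d hd q hq hqd => ⟨hq, d, hd, hqd⟩
  have hB : ∀ d ∈ relCharDegrees N, ¬ Conn N a d → PiNum ωᶜ d := by
    rintro d hd hnc q hq hqd ⟨-, e, he, hqe⟩
    apply hnc
    obtain ⟨-, heN, -⟩ := id he
    exact he.trans (Conn.of_dvd heN hd hq.one_lt hqe hqd)
  refine ⟨ω, hNG, fun d hd => ?_, ⟨a, ha, hA a (Conn.refl ha)⟩, ⟨b, hb, hB b hb hab⟩⟩
  by_cases h : Conn N a d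
  · exact Or.inl (hA d h)
  · exact Or.inr (hB d hd h)

end main

end Cfsg.Agent.H726.Rel
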